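import Cfsg.Agent.Mrg.Omega.NOThreeL.RZ.Frame
import Cfsg.Agent.Mrg.Omega.EK3.Rank
import Cfsg.Agent.Mrg.Omega.ML.LieTwF4
import Cfsg.Agent.Mrg.Omega.Assembly
import Cfsg.Agent.ZN.ChoiceBase
import Cfsg.Agent.Mrg.Omega.NOThreeL.RZ.TwoC.SideP
import Cfsg.Agent.Mrg.Omega.NOThreeL.RZ.LowR

-- merged: Cfsg.Agent.Mrg.Omega.NOThreeL.RZ.TwoC.Loc
section

/-!
# [R-z], case (II) (helper513, #24309 (1)-(3), #24705; helper720 #24422): local subgroups `L ≥ S`, `V ∈ NN(S)`

`S` a Sylow 2-subgroup, `Z = Ω₁(Z(S))`, `O = O₂(C_G(Z))`, `L ∈ L(S)` (not necessarily `≥ C_G(Z)`), `U = ⟨Z^L⟩`.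

* `gml` : `|A : C_A(U)| ≤ |U : C_U(A)|` for the elementary abelian `A ≤ O`;
* `inf_cent_le` : `O ∩ C(U) ≤ O₂(L)`;
* `cent_zl`, `le_o2L` : `V ∈ NN(S)`, `V ≤ O` centralises `U` and lies in `O₂(L)`;
* `nn_hul` : `⟨V^L⟩ ∈ NN(O₂(L))`;  **`noOn_hul`** : `Z ≤ V`: `|A : C_A(W)| ≤ |W : C_W(A)|` for `W = ⟨V^L⟩`, `A ≤ O`;
* `norm_inf` : `K ≥ C_G(Z)`, `Z ≤ W`, `K ≤ N(W)` imply `K ≤ N(O ∩ C(W))`.
-/

set_option autoImplicit false
set_option linter.unusedSectionVars false

namespace Cfsg.Agent.Omega.NOThreeL.RZ.TwoC.Loc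

open Subgroup Cfsg
open Cfsg.Agent.ZN (o2 zc zl jj)
open Cfsg.Agent.ZN.ChoiceBase hiding mem_zc
open Cfsg.Agent.Omega.ML.Final (MLK)
open Cfsg.Agent.Omega.ML.GMod (hul hul_le hul_le_of le_hul cj_le_hul le_normalizer_hul nc ZD step ri_mono
  normalizer_le_normalizer_o2)
open Cfsg.Agent.Omega.ML.GNN (card_mul)
open Cfsg.Agent.Omega.FFThm
open Cfsg.Agent.Omega.MinPar Cfsg.Agent.Omega.Frame Cfsg.Agent.Omega.FrameNOFF
open Cfsg.Agent.Omega.NO3b.Bang
open Cfsg.Agent.Omega.NO3S.EThree.ExactA (eab_iff)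
open Cfsg.Agent.Omega.EK3.Rank (NoOn)
open Cfsg.Agent.MinSimple.VModule (zc_le_zl le_normalizer_zl zl_le zc_le zc_sq zc_comm mem_zc le_centralizer_zc
  le_normalizer_o2 o2_isPGroup o2_le le_o2)
open Cfsg.Agent.MinSimple.Basic (not_dvd_relIndex)

universe u

variable {G : Type u} [Group G] [Finite G] {S : Sylow 2 G}

theorem o2C_le : o2 (CZ (S : Subgroup G)) ≤ (S : Subgroup G) := by
  refine le_of_le_normalizer S (o2_isPGroup _) ((le_CZ S).trans (le_normalizer_o2 _))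

/-- `O₂(C_G(Z)) ≤ O₂(C_L(Z))` -/
theorem low_inf {L : Subgroup G} (hL : (S : Subgroup G) ≤ L) :
    o2 (CZ (S : Subgroup G)) ≤ o2 (L ⊓ centralizer (zc (S : Subgroup G) : Set G)) :=
  le_o2 (le_inf (o2C_le.trans hL) (o2_le _)) (o2_isPGroup _) (inf_le_right.trans (le_normalizer_o2 _))

/-- `O₂(C) ∩ C(W) ≤ O₂(L)` for `W ≥ Z` which is normalised by `L` -/
theorem inf_cent_le {L W : Subgroup G} (hL : (S : Subgroup G) ≤ L) (hZ : zc (S : Subgroup G) ≤ W)
    (hn : L ≤ normalizer (W : Set G)) :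
    o2 (CZ (S : Subgroup G)) ⊓ centralizer (W : Set G) ≤ o2 L := by
  have hC1 : L ⊓ centralizer (W : Set G) ≤ CZ (S : Subgroup G) := inf_le_right.trans (centralizer_le hZ)
  have hnC : L ≤ normalizer ((L ⊓ centralizer (W : Set G) : Subgroup G) : Set G) :=
    le_trans (le_inf Subgroup.le_normalizer (hn.trans (nc W))) inf_normalizer_le_normalizer_inf
  have h2 : o2 (CZ (S : Subgroup G)) ⊓ (L ⊓ centralizer (W : Set G)) ≤ o2 (L ⊓ centralizer (W : Set G)) := by
    refine le_o2 inf_le_right ((o2_isPGroup _).to_le inf_le_left) ?_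
    exact le_trans (le_inf (hC1.trans (le_normalizer_o2 _)) Subgroup.le_normalizer)
      inf_normalizer_le_normalizer_inf
  have h3 : o2 (L ⊓ centralizer (W : Set G)) ≤ o2 L :=
    le_o2 ((o2_le _).trans inf_le_left) (o2_isPGroup _) (hnC.trans (normalizer_le_normalizer_o2 _))
  refine le_trans (le_inf inf_le_left (le_inf (inf_le_left.trans (o2C_le.trans hL)) inf_le_right)) (h2.trans h3)

/-- `K ≥ C_G(Z)` normalising `W ≥ Z` normalises `O₂(C_G(Z)) ∩ C(W)` -/
theorem norm_inf {K W : Subgroup G} (hC : CZ (S : Subgroup G) ≤ K) (hZ : zc (S : Subgroup G) ≤ W)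
    (hn : K ≤ normalizer (W : Set G)) :
    K ≤ normalizer ((o2 (CZ (S : Subgroup G)) ⊓ centralizer (W : Set G) : Subgroup G) : Set G) := by
  have hWC : centralizer (W : Set G) ≤ CZ (S : Subgroup G) := centralizer_le hZ
  have e : o2 (CZ (S : Subgroup G)) ⊓ centralizer (W : Set G) = o2 (centralizer (W : Set G)) := by
    apply le_antisymm
    · refine le_o2 inf_le_right ((o2_isPGroup _).to_le inf_le_left) ?_
      exact le_trans (le_inf (hWC.trans (le_normalizer_o2 _)) Subgroup.le_normalizer) inf_normalizer_le_normalizer_inf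
    · refine le_inf ?_ (o2_le _)
      refine le_o2 ((o2_le _).trans hWC) (o2_isPGroup _) ?_
      exact (hC.trans (hn.trans (nc W))).trans (normalizer_le_normalizer_o2 _)
  rw [e]
  exact (hn.trans (nc W)).trans (normalizer_le_normalizer_o2 _)

section loc

variable {L : Subgroup G} (hM : MLK.{u, u}) (hG : Ctx G) (hL : IsLoc (S : Subgroup G) L) (hK : IsKGroup L)
include hM hG hL hK

/-- **LEMMA GML** for `⟨Z^L⟩`, `L` any local subgroup over `S` -/
theorem gml {A : Subgroup G} (hA : A ≤ o2 (CZ (S : Subgroup G))) (hsq : ∀ a ∈ A, a ^ 2 = 1) :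
    (centralizer (zl (S : Subgroup G) L : Set G)).relIndex A ≤
      (centralizer (A : Set G)).relIndex (zl (S : Subgroup G) L) := by
  have D : ZD L (zl (S : Subgroup G) L) (zc (S : Subgroup G)) (S : Subgroup G) A :=
    { nV := le_normalizer_zl _ _
      sq := fun v hv => by
        have := zc_sq _ _ (hL.zl_le S hG.char2 hv)
        rwa [sq] at this
      ZV := zc_le_zl _ _
      gen := fun U hZ hLU => zl_le hZ hLU
      TL := hL.le
      two := S.isPGroup'
      odd := not_dvd_relIndex S hL.le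
      TZ := le_centralizer_zc _
      AO := hA.trans (low_inf hL.le)
      Asq := fun a ha => by
        have := hsq a ha
        rw [← sq, this]
        exact one_mem _ }
  exact D.gml hM hK

/-- `V ∈ NN(S)`, `V ≤ O₂(C_G(Z))` centralises `⟨Z^L⟩`. -/
theorem cent_zl {V : Subgroup G} (hV : NN (S : Subgroup G) V) (hVQ : V ≤ o2 (CZ (S : Subgroup G))) :
    V ≤ centralizer (zl (S : Subgroup G) L : Set G) := by
  by_contra hne
  have h1 := gml hM hG hL hK hVQ hV.sq
  set U : Subgroup G := zl (S : Subgroup G) L with hU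
  have hU2 : U ≤ zc (o2 L) := hL.zl_le S hG.char2
  have hUS : U ≤ (S : Subgroup G) := (hU2.trans (zc_le _)).trans (hL.o2_le S)
  refine hV.nff U hUS ⟨⟨?_, ?_⟩, fun hc => hne (cent_symm hc), ?_⟩
  · intro a ha
    rw [zc_sq _ _ (hU2 ha)]
    exact one_mem _
  · intro a ha b hb
    rw [zc_comm _ _ (hU2 ha) _ (hU2 hb), mul_inv_cancel_right, mul_inv_cancel]
    exact one_mem _
  · have e1 : Nat.card ↥(V ⊓ centralizer (U : Set G)) * (centralizer (U : Set G)).relIndex V = Nat.card V := by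
      rw [← inf_relIndex_left]
      exact card_mul inf_le_left
    have e2 : Nat.card ↥(U ⊓ centralizer (V : Set G)) * (centralizer (V : Set G)).relIndex U = Nat.card U := by
      rw [← inf_relIndex_left]
      exact card_mul inf_le_left
    rw [← e1, ← e2]
    calc Nat.card ↥(V ⊓ centralizer (U : Set G)) * (centralizer (U : Set G)).relIndex V *
          Nat.card ↥(U ⊓ centralizer (V : Set G))
        ≤ Nat.card ↥(V ⊓ centralizer (U : Set G)) * (centralizer (V : Set G)).relIndex U *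
          Nat.card ↥(U ⊓ centralizer (V : Set G)) := by
          exact Nat.mul_le_mul_right _ (Nat.mul_le_mul_left _ h1)
      _ = _ := by ring

/-- **`V ∈ NN(S)`, `V ≤ O₂(C_G(Z))` implies `V ≤ O₂(L)`, `L` any local subgroup over `S`.** -/
theorem le_o2L {V : Subgroup G} (hV : NN (S : Subgroup G) V) (hVQ : V ≤ o2 (CZ (S : Subgroup G))) : V ≤ o2 L :=
  (le_inf hVQ (cent_zl hM hG hL hK hV hVQ)).trans (inf_cent_le hL.le (zc_le_zl _ _) (le_normalizer_zl _ _))

omit hM hG hL hK in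
theorem nn_iSup {ι : Type u} [Finite ι] {T : Subgroup G} (f : ι → Subgroup G) (h : ∀ i, NN T (f i)) : NN T (⨆ i, f i) := by
  classical
  have := Fintype.ofFinite ι
  rw [← Finset.sup_univ_eq_iSup]
  exact Finset.sup_induction (NN.bot T) (fun _ h1 _ h2 => h1.sup h2) fun i _ => h i

/-- **`⟨V^L⟩ ∈ NN(O₂(L))`** -/
theorem nn_hul {V : Subgroup G} (hV : NN (S : Subgroup G) V) (hVQ : V ≤ o2 (CZ (S : Subgroup G))) :
    NN (o2 L) (hul V L) := by
  refine nn_iSup _ fun l => ?_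
  have h1 := hV.cj (l : G)
  have h2 : cj (l : G) (o2 L) = o2 L := cj_eq_of_mem_normalizer (le_normalizer_o2 L l.2)
  refine h1.mono ?_ ?_
  · conv_rhs => rw [← h2]
    exact cj_mono _ (le_o2L hM hG hL hK hV hVQ)
  · conv_lhs => rw [← h2]
    exact cj_mono _ (hL.o2_le S)

theorem hul_eab {V : Subgroup G} (hV : NN (S : Subgroup G) V) (hVQ : V ≤ o2 (CZ (S : Subgroup G))) :
    IsElementaryAbelian 2 (hul V L) :=
  eab_iff.2 ⟨(nn_hul hM hG hL hK hV hVQ).comm, (nn_hul hM hG hL hK hV hVQ).sq⟩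

/-- no offender in `T`: `|A : C_A(W)| ≤ |W : C_W(A)|` -/
theorem le_of_nn {T W A : Subgroup G} (hW : NN T W) (hA : A ≤ T) (hel : IsElementaryAbelian 2 A) :
    (centralizer (W : Set G)).relIndex A ≤ (centralizer (A : Set G)).relIndex W := by
  by_cases hc : A ≤ centralizer (W : Set G)
  · have h1 : (centralizer (W : Set G)).relIndex A = 1 := relIndex_eq_one.2 hc
    rw [h1]
    exact Nat.one_le_iff_ne_zero.2 (ML.GMod.ri_ne _ _)
  by_contra hlt
  push Not at hlt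
  refine hW.nff A hA ⟨offM_of_abel (eab_iff.1 hel).1 fun a ha => (eab_iff.1 hel).2 a ha, hc, ?_⟩
  have e1 : Nat.card ↥(A ⊓ centralizer (W : Set G)) * (centralizer (W : Set G)).relIndex A = Nat.card A := by
    rw [← inf_relIndex_left]
    exact card_mul inf_le_left
  have e2 : Nat.card ↥(W ⊓ centralizer (A : Set G)) * (centralizer (A : Set G)).relIndex W = Nat.card W := by
    rw [← inf_relIndex_left]
    exact card_mul inf_le_left
  rw [← e1, ← e2]
  calc _ ≤ Nat.card ↥(W ⊓ centralizer (A : Set G)) * (centralizer (W : Set G)).relIndex A *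
          Nat.card ↥(A ⊓ centralizer (W : Set G)) := by
          exact Nat.mul_le_mul_right _ (Nat.mul_le_mul_left _ hlt.le)
      _ = _ := by ring

/-- **`|A : C_A(W)| ≤ |W : C_W(A)|`, `W = ⟨V^L⟩`, `Z ≤ V ∈ NN(S)`, for the elementary abelian `A ≤ O₂(C_G(Z))`.** -/
theorem noOn_hul {V : Subgroup G} (hV : NN (S : Subgroup G) V) (hVQ : V ≤ o2 (CZ (S : Subgroup G)))
    (hZV : zc (S : Subgroup G) ≤ V) : NoOn (o2 (CZ (S : Subgroup G))) (hul V L) := by
  intro A hel hA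
  have hUW : zl (S : Subgroup G) L ≤ hul V L := zl_le (hZV.trans (le_hul V L)) (le_normalizer_hul V L)
  refine step hUW (gml hM hG hL hK hA (eab_iff.1 hel).2) ?_
  refine le_of_nn hM hG hL hK (nn_hul hM hG hL hK hV hVQ) ?_
    (NO3S.EThree.ExactA.eab_mono hel inf_le_left)
  exact (inf_le_inf_right _ hA).trans (inf_cent_le hL.le (zc_le_zl _ _) (le_normalizer_zl _ _))

end loc

end Cfsg.Agent.Omega.NOThreeL.RZ.TwoC.Loc

end

-- merged: Cfsg.Agent.Mrg.Omega.NOThreeL.RZ.Nz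
section

/-!
# OMEGA NO-3L, [R-z]: the small flag and `Z = Ω₁(Z(S))`

`Z' ≤ Z`, `Z' ≠ 1`; `V` is normalised by `N_G(S)` and by all `P ∈ P*(S)`.

* `le_centralizer_zc` : `P ∈ P(S)` normalising `Z` centralises `Z`;
* `nz_of` : `C_G(Z') ≰ N_G(V)` implies `C_G(Z) ≰ N_G(V)`.

So the flags `F` of the `Z'`-frame may always be taken with exits in `C_G(Z F)`.
-/

set_option autoImplicit false

namespace Cfsg.Agent.Omega.NOThreeL.RZ.Nz

open Subgroup Cfsg Cfsg.Agent.Omega.MinPar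
open Cfsg.Agent.ZN (zc zl o2)
open Cfsg.Agent.ZN.ChoiceBase (mem_normalizer_iff_cj cj_inf cj_eq_of_mem_normalizer cj_centralizer)
open Cfsg.Agent.MinSimple.VModule (le_centralizer_zc zc_le)

universe u

variable {G : Type u} [Group G] [Finite G] {S : Sylow 2 G}

/-- `P ∈ P(S)` normalising `Ω₁(Z(S))` centralises it. -/
theorem le_centralizer_of {P : Subgroup G} (hP : IsPar (S : Subgroup G) P)
    (h : P ≤ normalizer (zc (S : Subgroup G) : Set G)) :
    P ≤ centralizer (zc (S : Subgroup G) : Set G) := by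
  have hSC : (S : Subgroup G) ≤ centralizer (zc (S : Subgroup G) : Set G) := le_centralizer_zc _
  have hn : P ≤ normalizer ((P ⊓ centralizer (zc (S : Subgroup G) : Set G) : Subgroup G) : Set G) := by
    intro p hp
    rw [mem_normalizer_iff_cj, cj_inf, cj_eq_of_mem_normalizer (Subgroup.le_normalizer hp),
      cj_centralizer, cj_eq_of_mem_normalizer (h hp)]
  rcases hP.sup_eq_or_inf_le (S := S) inf_le_left hn with h1 | h1
  · rw [← h1]
    exact sup_le inf_le_right hSC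
  · exfalso
    have h2 : (S : Subgroup G) ≤ o2 P := (le_inf le_rfl (le_inf hP.le hSC)).trans h1
    have h3 : o2 P = (S : Subgroup G) := le_antisymm ((⟨hP.le, hP.o2_ne⟩ : IsLoc (S : Subgroup G) P).o2_le S) h2
    exact hP.not_le (h3 ▸ MinSimple.VModule.le_normalizer_o2 P)

/-- **`C_G(Z') ≰ N_G(V)` implies `C_G(Z) ≰ N_G(V)`.** -/
theorem nz_of {Z' V : Subgroup G} (hZ' : Z' ≤ zc (S : Subgroup G)) (hne : Z' ≠ ⊥)
    (hN : centralizer (Z' : Set G) ⊓ normalizer ((S : Subgroup G) : Set G) ≤ normalizer (V : Set G))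
    (hP : ∀ P : Subgroup G, IsParS (S : Subgroup G) P → P ≤ centralizer (Z' : Set G) →
      P ≤ normalizer (V : Set G))
    (h : ¬ centralizer (Z' : Set G) ≤ normalizer (V : Set G)) :
    ¬ centralizer (zc (S : Subgroup G) : Set G) ≤ normalizer (V : Set G) := by
  intro hcon
  apply h
  have hSC : (S : Subgroup G) ≤ centralizer (Z' : Set G) :=
    (le_centralizer_zc _).trans (centralizer_le hZ')
  have h2 : IsPGroup 2 Z' := S.isPGroup'.to_le (hZ'.trans (zc_le _))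
  have hL : IsLoc (S : Subgroup G) (centralizer (Z' : Set G)) :=
    isLoc_of_le_normalizer S hSC h2 hne (centralizer_le_normalizer _)
  refine hL.le_of_forall S hN fun P hPP hPC => ?_
  by_cases hz : P ≤ normalizer (zc (S : Subgroup G) : Set G)
  · exact (le_centralizer_of hPP hz).trans hcon
  · exact hP P ⟨hPP, hz⟩ hPC

end Cfsg.Agent.Omega.NOThreeL.RZ.Nz

end

-- merged: Cfsg.Agent.Mrg.Omega.NOThreeL.RZ.TwoC.Ab
section

/-!
# [R-z], case (II) (helper513, #24309, #24705; helper616 #24761): the two sides, abstract frame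

`S` a Sylow 2-subgroup, `Z = Ω₁(Z(S))`, `C = C_G(Z) = CZ S`, `O = O₂(C)`, `N = N_G(S)`; `L ≥ S` (`= LL S R`), `E` the group
generated by the block types, `V ∈ NN(S)` (`= ⟨Z^L⟩`), `1 ≠ Z₁ ≤ Z₀ ≤ Z`, `Z₁ ≤ R₁`, `B`: `Ab S L E Z₀ B V Z₁ R₁`.

* `K1 S L = ⟨L, C⟩ N`, `K2 S Z₁ = C_G(Z₁) N`; `U₁ = zl S K₁`, `W₂ = ⟨V^{K₂}⟩`, `NR = ⟨V^{C_G(R₁)}⟩`, `NB = ⟨Z₀^{C_G(B)}⟩`;
* `locK1`, `locK2`, `K2_le` : `K₂ ≤ ⟨K₁ ∩ K₂, E⟩`; `cB_le` : `C_G(B) ≤ K₁`; `noOnR`, `noB`;
* **`Ab.twoD`** : `Side.TwoD`;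
* `Ab.le_o2K1`, `Ab.le_o2R`, `Ab.le_o2K2`, `Ab.le_o2B` : where `A` and `F` lie.
-/

set_option autoImplicit false
set_option linter.unusedSectionVars false

namespace Cfsg.Agent.Omega.NOThreeL.RZ.TwoC

open Subgroup Cfsg
open Cfsg.Agent.ZN (o2 zc zl jj)
open Cfsg.Agent.ZN.ChoiceBase hiding mem_zc
open Cfsg.Agent.Omega.ML.Final (MLK)
open Cfsg.Agent.Omega.ML.GMod (hul hul_le hul_le_of le_hul cj_le_hul le_normalizer_hul nc ri_mono
  normalizer_le_normalizer_o2)
open Cfsg.Agent.Omega.MinPar Cfsg.Agent.Omega.Frame Cfsg.Agent.Omega.FrameNOFF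
open Cfsg.Agent.Omega.NO3b.Bang
open Cfsg.Agent.Omega.NO3S.EThree.ExactA (eab_iff eab_mono)
open Cfsg.Agent.Omega.EK3.Rank (NoOn)
open Cfsg.Agent.Omega.NoFF.Basic (comm_symm)
open Cfsg.Agent.Omega.GI (relIndex_congr relIndex_sup_of_comm)
open Cfsg.Agent.MinSimple.VModule (zc_le_zl le_normalizer_zl zl_le zc_le zc_sq zc_comm mem_zc le_centralizer_zc
  le_normalizer_o2 o2_isPGroup o2_le le_o2 normalizer_le_normalizer_zc)
open Cfsg.Agent.Omega.NOThreeL.RZ.TwoC.Loc

universe u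

variable {G : Type u} [Group G]

/-- `K₁ = ⟨L, C_G(Z)⟩ N_G(S)` -/
def K1 (S L : Subgroup G) : Subgroup G := (L ⊔ CZ S) ⊔ normalizer (S : Set G)

/-- `K₂ = C_G(Z₁) N_G(S)` -/
def K2 (S Z₁ : Subgroup G) : Subgroup G := centralizer (Z₁ : Set G) ⊔ normalizer (S : Set G)

theorem norm_hul [Finite G] {Z L K : Subgroup G} (h1 : K ≤ normalizer (Z : Set G)) (h2 : K ≤ normalizer (L : Set G)) :
    K ≤ normalizer (hul Z L : Set G) := by
  intro k hk
  refine mem_normalizer_of_cj_le ?_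
  rw [cj_le_iff]
  refine hul_le fun l hl => ?_
  rw [← cj_le_iff, cj_cj]
  have e : cj (k * l) Z = cj (k * l * k⁻¹) Z := by
    conv_rhs => rw [← cj_cj, cj_eq_of_mem_normalizer (h1 (K.inv_mem hk))]
  rw [e]
  exact cj_le_hul ((mem_normalizer_iff.1 (h2 hk) l).1 hl)

theorem hul_mono {Z L L' : Subgroup G} (h : L ≤ L') : hul Z L ≤ hul Z L' := hul_le fun _ hg => cj_le_hul (h hg)

theorem nS_CZ [Finite G] {S : Sylow 2 G} :
    normalizer ((S : Subgroup G) : Set G) ≤ normalizer (CZ (S : Subgroup G) : Set G) :=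
  (normalizer_le_normalizer_zc _).trans (nc _)

/-- **The abstract frame of case (II).** -/
structure Ab [Finite G] (S : Sylow 2 G) (L E Z₀ B V Z₁ R₁ : Subgroup G) : Prop where
  ctx : Ctx G
  SL : (S : Subgroup G) ≤ L
  nL : normalizer ((S : Subgroup G) : Set G) ≤ normalizer (L : Set G)
  nn : NN (S : Subgroup G) V
  ZV : zc (S : Subgroup G) ≤ V
  low : V ≤ o2 (CZ (S : Subgroup G))
  LV : L ≤ normalizer (V : Set G)
  dich : ∀ P, IsParS (S : Subgroup G) P → P ≤ L ∨ P ≤ E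
  EZ : E ≤ centralizer (Z₀ : Set G)
  EB : E ≤ normalizer (B : Set G)
  SB : (S : Subgroup G) ≤ normalizer (B : Set G)
  B2 : IsPGroup 2 B
  zB : zc (S : Subgroup G) ≤ (zc (S : Subgroup G) ⊓ B) ⊔ Z₀
  BN : B ≤ hul V (centralizer (R₁ : Set G))
  Z0 : Z₀ ≤ zc (S : Subgroup G)
  ne1 : Z₁ ≠ ⊥
  le1 : Z₁ ≤ Z₀
  n1 : normalizer ((S : Subgroup G) : Set G) ≤ normalizer (Z₁ : Set G)
  R2 : IsPGroup 2 R₁
  ZR : Z₁ ≤ R₁
  LR : L ≤ normalizer (R₁ : Set G)
  nl : ∀ U : Subgroup G, IsPGroup 2 U → L ≤ normalizer (U : Set G) →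
    centralizer (Z₀ : Set G) ≤ normalizer (U : Set G) → U = ⊥
  loc : ¬ NonLoc L (CZ (S : Subgroup G))

namespace Ab

variable [Finite G] {S : Sylow 2 G} {L E Z₀ B V Z₁ R₁ : Subgroup G} (h : Ab S L E Z₀ B V Z₁ R₁)
include h

theorem Z1_le : Z₁ ≤ zc (S : Subgroup G) := h.le1.trans h.Z0

theorem zc_ne : zc (S : Subgroup G) ≠ ⊥ := fun e => h.ne1 (le_bot_iff.1 (e ▸ h.Z1_le))

theorem S_le_K1 : (S : Subgroup G) ≤ K1 (S : Subgroup G) L := (le_CZ S).trans (le_sup_right.trans le_sup_left)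

theorem C_le_K1 : CZ (S : Subgroup G) ≤ K1 (S : Subgroup G) L := le_sup_right.trans le_sup_left

theorem L_le_K1 : L ≤ K1 (S : Subgroup G) L := le_sup_left.trans le_sup_left

/-- `K₁` is local -/
theorem locK1 : IsLoc (S : Subgroup G) (K1 (S : Subgroup G) L) := by
  have h1 : o2 (L ⊔ CZ (S : Subgroup G)) ≠ ⊥ := by
    intro e
    apply h.loc
    intro U hU hA hB
    by_contra hne
    refine o2_ne_bot_of_le hU hne ?_ (sup_le hA hB) e
    exact (le_of_le_normalizer S hU ((le_CZ S).trans hB)).trans ((le_CZ S).trans le_sup_right)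
  refine isLoc_of_le_normalizer S h.S_le_K1 (o2_isPGroup (L ⊔ CZ (S : Subgroup G))) h1 ?_
  refine sup_le (le_normalizer_o2 _) ?_
  refine le_trans ?_ (normalizer_le_normalizer_o2 _)
  exact le_normalizer_sup h.nL nS_CZ

theorem kg {X : Subgroup G} (hL : IsLoc (S : Subgroup G) X) : IsKGroup X :=
  ML.GNN.kgroup_of_isLoc h.ctx h.ctx.not_isPGroup hL

/-- `K₂` is local -/
theorem locK2 : IsLoc (S : Subgroup G) (K2 (S : Subgroup G) Z₁) := by
  refine isLoc_of_le_normalizer S ?_ (S.isPGroup'.to_le (h.Z1_le.trans (zc_le _))) h.ne1 ?_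
  · exact (le_normalizer : (S : Subgroup G) ≤ _).trans le_sup_right
  · exact sup_le (centralizer_le_normalizer _) h.n1

theorem C_le_K2 : CZ (S : Subgroup G) ≤ K2 (S : Subgroup G) Z₁ := (centralizer_le h.Z1_le).trans le_sup_left

theorem E_le : E ≤ K2 (S : Subgroup G) Z₁ := (h.EZ.trans (centralizer_le h.le1)).trans le_sup_left

/-- **`K₂ ≤ ⟨K₁ ∩ K₂, E⟩`** -/
theorem K2_le : K2 (S : Subgroup G) Z₁ ≤ (K1 (S : Subgroup G) L ⊓ K2 (S : Subgroup G) Z₁) ⊔ E := by
  refine h.locK2.le_of_forall S (le_trans ?_ le_sup_left) fun P hP hPK => ?_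
  · exact le_inf (inf_le_right.trans le_sup_right) inf_le_left
  · by_cases hz : P ≤ normalizer (zc (S : Subgroup G) : Set G)
    · exact (le_inf ((Nz.le_centralizer_of hP hz).trans h.C_le_K1) hPK).trans le_sup_left
    rcases h.dich P ⟨hP, hz⟩ with h1 | h1
    · exact (le_inf (h1.trans h.L_le_K1) hPK).trans le_sup_left
    · exact h1.trans le_sup_right

/-- `⟨K₁, K₂⟩` is nonlocal -/
theorem nonlocK {U : Subgroup G} (hU : IsPGroup 2 U) (h1 : K1 (S : Subgroup G) L ≤ normalizer (U : Set G))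
    (h2 : K2 (S : Subgroup G) Z₁ ≤ normalizer (U : Set G)) : U = ⊥ :=
  h.nl U hU (h.L_le_K1.trans h1) (((centralizer_le h.le1).trans le_sup_left).trans h2)

/-- `L` normalises `⟨V^{C_G(R₁)}⟩` -/
theorem nNR : L ≤ normalizer (hul V (centralizer (R₁ : Set G)) : Set G) := norm_hul h.LV (h.LR.trans (nc _))

theorem R1_ne : R₁ ≠ ⊥ := fun e => h.ne1 (le_bot_iff.1 (e ▸ h.ZR))

/-- `C_G(R₁) S` is local -/
theorem locR : IsLoc (S : Subgroup G) (centralizer (R₁ : Set G) ⊔ (S : Subgroup G)) :=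
  isLoc_of_le_normalizer S le_sup_right h.R2 h.R1_ne (sup_le (centralizer_le_normalizer _) (h.SL.trans h.LR))

theorem hul_R : hul V (centralizer (R₁ : Set G) ⊔ (S : Subgroup G)) = hul V (centralizer (R₁ : Set G)) := by
  refine le_antisymm (hul_le_of (le_hul _ _) ?_) (hul_mono le_sup_left)
  exact sup_le (le_normalizer_hul _ _) (h.SL.trans h.nNR)

theorem B_ne : B ≠ ⊥ := by
  intro e
  have h1 : zc (S : Subgroup G) ≤ Z₀ := by
    have := h.zB
    rw [e, inf_bot_eq, bot_sup_eq] at this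
    exact this
  refine h.locK1.o2_ne (h.nl _ (o2_isPGroup _) (h.L_le_K1.trans (le_normalizer_o2 _)) ?_)
  exact ((centralizer_le h1).trans h.C_le_K1).trans (le_normalizer_o2 _)

theorem cent_Z {X : Subgroup G} (h1 : X ≤ centralizer (B : Set G)) (h2 : X ≤ centralizer (Z₀ : Set G)) :
    X ≤ centralizer (zc (S : Subgroup G) : Set G) := by
  refine comm_symm (h.zB.trans (sup_le ?_ (comm_symm h2)))
  exact inf_le_right.trans (comm_symm h1)

/-- `C_G(B) S` is local -/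
theorem locB : IsLoc (S : Subgroup G) (centralizer (B : Set G) ⊔ (S : Subgroup G)) :=
  isLoc_of_le_normalizer S le_sup_right h.B2 h.B_ne (sup_le (centralizer_le_normalizer _) h.SB)

/-- **`C_G(B) ≤ K₁`** -/
theorem cB_le : centralizer (B : Set G) ≤ K1 (S : Subgroup G) L := by
  refine le_trans (le_sup_left : _ ≤ centralizer (B : Set G) ⊔ (S : Subgroup G)) ?_
  refine h.locB.le_of_forall S (inf_le_right.trans le_sup_right) fun P hP hPX => ?_
  by_cases hz : P ≤ normalizer (zc (S : Subgroup G) : Set G)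
  · exact (Nz.le_centralizer_of hP hz).trans h.C_le_K1
  rcases h.dich P ⟨hP, hz⟩ with h1 | h1
  · exact h1.trans h.L_le_K1
  · -- `P = C_P(B) S` centralises `Z`
    have e : P ≤ (P ⊓ centralizer (B : Set G)) ⊔ (S : Subgroup G) := by
      intro p hp
      have h2 : p ∈ ((centralizer (B : Set G) ⊔ (S : Subgroup G) : Subgroup G) : Set G) := hPX hp
      rw [coe_mul_of_right_le_normalizer_left _ _ (h.SB.trans (nc _)), Set.mem_mul] at h2
      obtain ⟨c, hc, t, ht, rfl⟩ := h2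
      refine mul_mem_sup ⟨?_, hc⟩ ht
      have e2 : c = c * t * t⁻¹ := by group
      rw [e2]
      exact P.mul_mem hp (P.inv_mem (hP.le ht))
    have h2 : P ≤ CZ (S : Subgroup G) := by
      refine e.trans (sup_le ?_ (le_CZ S))
      exact h.cent_Z inf_le_right (inf_le_left.trans (h1.trans h.EZ))
    exact h2.trans h.C_le_K1

/-- `⟨Z^{C_G(B) S}⟩ = ⟨Z₀^{C_G(B)}⟩ (Z ∩ B)` -/
theorem zl_B : zl (S : Subgroup G) (centralizer (B : Set G) ⊔ (S : Subgroup G)) =
    hul Z₀ (centralizer (B : Set G)) ⊔ (zc (S : Subgroup G) ⊓ B) := by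
  apply le_antisymm
  · refine zl_le ?_ ?_
    · exact h.zB.trans (sup_le le_sup_right ((le_hul _ _).trans le_sup_left))
    · have hSZ0 : (S : Subgroup G) ≤ normalizer (Z₀ : Set G) :=
        ((le_CZ S).trans (centralizer_le h.Z0)).trans (centralizer_le_normalizer _)
      refine sup_le (le_normalizer_sup (le_normalizer_hul _ _) ?_) (le_normalizer_sup ?_ ?_)
      · exact (centralizer_le inf_le_right).trans (centralizer_le_normalizer _)
      · exact norm_hul hSZ0 (h.SB.trans (nc _))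
      · exact ((le_CZ S).trans (centralizer_le inf_le_left)).trans (centralizer_le_normalizer _)
  · refine sup_le ?_ (inf_le_left.trans (zc_le_zl _ _))
    refine hul_le_of (h.Z0.trans (zc_le_zl _ _)) (le_sup_left.trans (le_normalizer_zl _ _))

theorem hRW : hul V (centralizer (R₁ : Set G)) ≤ hul V (K2 (S : Subgroup G) Z₁) :=
  hul_mono ((centralizer_le h.ZR).trans le_sup_left)

theorem B_le_W : B ≤ hul V (K2 (S : Subgroup G) Z₁) := h.BN.trans h.hRW

/-! ### Where `A` and `F` lie -/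

/-- `A ∈ AA(C_O(U₁))`: `A ≤ O₂(K₁)` -/
theorem le_o2K1 : o2 (CZ (S : Subgroup G)) ⊓ centralizer (zl (S : Subgroup G) (K1 (S : Subgroup G) L) : Set G) ≤
    o2 (K1 (S : Subgroup G) L) :=
  inf_cent_le h.S_le_K1 (zc_le_zl _ _) (le_normalizer_zl _ _)

/-- `A ∈ AA(C_O(W₂))`: `A ≤ O₂(K₂)` -/
theorem le_o2K2 : o2 (CZ (S : Subgroup G)) ⊓ centralizer (hul V (K2 (S : Subgroup G) Z₁) : Set G) ≤
    o2 (K2 (S : Subgroup G) Z₁) :=
  inf_cent_le h.locK2.le (h.ZV.trans (le_hul _ _)) (le_normalizer_hul _ _)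

/-- `F = C_A(NR) ≤ O₂(C_G(R₁) S)` -/
theorem le_o2R : o2 (CZ (S : Subgroup G)) ⊓ centralizer (hul V (centralizer (R₁ : Set G)) : Set G) ≤
    o2 (centralizer (R₁ : Set G) ⊔ (S : Subgroup G)) := by
  rw [← h.hul_R]
  exact inf_cent_le le_sup_right (h.ZV.trans (le_hul _ _)) (le_normalizer_hul _ _)

/-- `F = C_A(NB) ≤ O₂(C_G(B) S)` if `F` centralises `B` -/
theorem le_o2B {F : Subgroup G} (hF : F ≤ o2 (CZ (S : Subgroup G))) (hFN : F ≤ centralizer (hul Z₀ (centralizer (B : Set G)) : Set G))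
    (hFB : F ≤ centralizer (B : Set G)) : F ≤ o2 (centralizer (B : Set G) ⊔ (S : Subgroup G)) := by
  refine le_trans (le_inf hF ?_) (inf_cent_le (W := zl (S : Subgroup G) (centralizer (B : Set G) ⊔ (S : Subgroup G)))
    le_sup_right (zc_le_zl _ _) (le_normalizer_zl _ _))
  rw [h.zl_B]
  exact comm_symm (sup_le (comm_symm hFN) (inf_le_right.trans (comm_symm hFB)))

variable (hM : MLK.{u, u})
include hM

/-- `(NO)` on `⟨V^{C_G(R₁)}⟩` -/
theorem noOnR : NoOn (o2 (CZ (S : Subgroup G))) (hul V (centralizer (R₁ : Set G))) := by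
  rw [← h.hul_R]
  exact noOn_hul hM h.ctx h.locR (h.kg h.locR) h.nn h.low h.ZV

/-- `(NO)` on `⟨Z₀^{C_G(B)}⟩` for the elementary abelian `A ≤ O` centralising `B` -/
theorem noB {A : Subgroup G} (hel : IsElementaryAbelian 2 A) (hA : A ≤ o2 (CZ (S : Subgroup G)))
    (hAB : A ≤ centralizer (B : Set G)) :
    (centralizer (hul Z₀ (centralizer (B : Set G)) : Set G)).relIndex A ≤
      (centralizer (A : Set G)).relIndex (hul Z₀ (centralizer (B : Set G))) := by
  have hX := h.locB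
  have h1 := gml hM h.ctx hX (h.kg hX) hA (eab_iff.1 hel).2
  have hzc := hX.zl_le S h.ctx.char2
  rw [h.zl_B] at h1 hzc
  set NB : Subgroup G := hul Z₀ (centralizer (B : Set G)) with hNB
  have hAZ : A ≤ centralizer ((zc (S : Subgroup G) ⊓ B : Subgroup G) : Set G) := hAB.trans (centralizer_le inf_le_right)
  have e1 : (centralizer ((NB ⊔ (zc (S : Subgroup G) ⊓ B) : Subgroup G) : Set G)).relIndex A =
      (centralizer (NB : Set G)).relIndex A := by
    refine relIndex_congr (le_antisymm (inf_le_inf_left _ (centralizer_le (SetLike.coe_subset_coe.2 le_sup_left))) ?_)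
    refine le_inf inf_le_left (comm_symm (sup_le (comm_symm inf_le_right) (comm_symm (inf_le_left.trans hAZ))))
  have e2 : (centralizer (A : Set G)).relIndex (NB ⊔ (zc (S : Subgroup G) ⊓ B)) = (centralizer (A : Set G)).relIndex NB := by
    refine relIndex_sup_of_comm (comm_symm hAZ) ?_
    intro x hx
    rw [mem_centralizer_iff]
    intro y hy
    exact zc_comm _ _ (hzc (le_sup_right (a := NB) hy)) _ (hzc (le_sup_left (b := zc (S : Subgroup G) ⊓ B) hx))
  rwa [e1, e2] at h1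

/-- **The two sides.** -/
theorem twoD :
    Side.TwoD (o2 (CZ (S : Subgroup G))) (CZ (S : Subgroup G) ⊔ normalizer ((S : Subgroup G) : Set G))
      (K1 (S : Subgroup G) L) (K2 (S : Subgroup G) Z₁) L E
      (zl (S : Subgroup G) (K1 (S : Subgroup G) L)) (hul V (K2 (S : Subgroup G) Z₁))
      (hul V (centralizer (R₁ : Set G))) (hul Z₀ (centralizer (B : Set G))) := by
  have l1 := h.locK1
  have l2 := h.locK2
  have hnn := nn_hul hM h.ctx l2 (h.kg l2) h.nn h.low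
  have hO1 : o2 (K1 (S : Subgroup G) L) ≤ o2 (CZ (S : Subgroup G)) := o2_le_o2 S (le_CZ S) h.C_le_K1
  have hO2 : o2 (K2 (S : Subgroup G) Z₁) ≤ o2 (CZ (S : Subgroup G)) := o2_le_o2 S (le_CZ S) h.C_le_K2
  have hz1 := l1.zl_le S h.ctx.char2
  exact
  { OD := (o2_le _).trans le_sup_left
    DO := sup_le (le_normalizer_o2 _) (nS_CZ.trans (normalizer_le_normalizer_o2 _))
    D1 := sup_le h.C_le_K1 le_sup_right
    D2 := sup_le h.C_le_K2 le_sup_right
    e1 := h.L_le_K1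
    g1 := sup_le (sup_le le_sup_right (le_sup_left.trans le_sup_left)) (le_sup_right.trans le_sup_left)
    e2 := h.E_le
    g2 := h.K2_le
    el1 := eab_iff.2 ⟨fun x hx => mem_centralizer_iff.2 fun y hy => zc_comm _ _ (hz1 hy) _ (hz1 hx),
      fun x hx => zc_sq _ _ (hz1 hx)⟩
    el2 := hul_eab hM h.ctx l2 (h.kg l2) h.nn h.low
    UO := (hz1.trans (zc_le _)).trans hO1
    WO := hnn.le.trans hO2
    KU := le_normalizer_zl _ _
    KW := le_normalizer_hul _ _
    q1 := norm_inf h.C_le_K1 (zc_le_zl _ _) (le_normalizer_zl _ _)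
    q2 := norm_inf h.C_le_K2 (h.ZV.trans (le_hul _ _)) (le_normalizer_hul _ _)
    core1 := by
      intro X hX hn
      have h1 : X ≤ o2 (K1 (S : Subgroup G) L) :=
        le_o2 (hX.trans ((o2_le _).trans h.C_le_K1)) ((o2_isPGroup _).to_le hX) hn
      intro x hx
      rw [mem_centralizer_iff]
      intro y hy
      exact ((mem_zc.1 (hz1 hy)).2.1 _ (h1 hx)).symm
    no1 := fun A hel hA => gml hM h.ctx l1 (h.kg l1) hA (eab_iff.1 hel).2
    no2 := noOn_hul hM h.ctx l2 (h.kg l2) h.nn h.low h.ZV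
    RW := h.hRW
    ER := h.nNR
    noR := fun A hA => h.noOnR hM A hA.1 (hA.2.1.trans inf_le_left)
    BU := hul_le_of (h.Z0.trans (zc_le_zl _ _)) (h.cB_le.trans (le_normalizer_zl _ _))
    EB := norm_hul (h.EZ.trans (centralizer_le_normalizer _)) (h.EB.trans (nc _))
    noB := fun A hA => h.noB hM hA.1 (hA.2.1.trans inf_le_left)
      ((hA.2.1.trans inf_le_right).trans (centralizer_le h.B_le_W))
    nonloc := fun X hX h1 h2 => h.nonlocK ((o2_isPGroup _).to_le hX) h1 h2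
    ne := fun e => h.zc_ne (le_bot_iff.1 (e ▸ zc_le_zl _ _)) }

end Ab

end Cfsg.Agent.Omega.NOThreeL.RZ.TwoC

end

-- merged: Cfsg.Agent.Mrg.Omega.NOThreeL.RZ.TwoC.AbP
section

section


/-!
# [R-z] (helper855 #24885, helper133 #25243, helper127 #25135): the two sides over the frame `FrE`

`S` a Sylow 2-subgroup, `Z = Ω₁(Z(S))`, `Y = ⟨P*(S)⟩`, `V* = ⟨Z^Y⟩ ≤ O = O₂(C_G(Z))`, `R, B ≤ V*` are normalised by `Y`,
`N_{K₁}(S)` and `N_{K₂}(S)`, every `A ∈ AA(O)` centralises `R`, `Z₀ = R ∩ Z ≠ 1`, `1 ≠ e ∈ Z ∩ B`, `Y = C_Y(R) C_Y(e)`: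
`FrP S R B e`; moreover `B ∩ R = 1` : `FrE S R B e`. `K₁ = C_G(e)`, `K₂ = C_G(Z₀)`, `U₁ = ⟨Z^{K₁}⟩`, `W₂ = ⟨V*^{K₂}⟩`,
`NR = ⟨Z^{Y C_G(R)}⟩`.

* `FrP.lK1`, `lK2`, `lX` : `K₁`, `K₂`, `Y C_G(R)` are local; `FrP.nl` : `⟨K₁, C_Y(R)⟩` is nonlocal;
* `FrP.QR_cent` : `O₂(C_G(R))` centralises `V*`; `FrP.W2` : `W₂ ≤ A` for `A ∈ AA(C_O(⟨Z^{K₂}⟩))`;
* `FrP.twoP` : `SideP.TwoP`;
* **`FrP.main`, `FrE.main`** : (alpha) or (beta).
-/

set_option autoImplicit false
set_option linter.unusedSectionVars false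

namespace Cfsg.Agent.Omega.NOThreeL.RZ.TwoC

open Subgroup Cfsg
open Cfsg.Agent.ZN (o2 zc zl jj)
open Cfsg.Agent.ZN.ChoiceBase hiding mem_zc
open Cfsg.Agent.Omega.ML.Final (MLK)
open Cfsg.Agent.Omega.ML.GMod (hul hul_le hul_le_of le_hul cj_le_hul le_normalizer_hul nc ri_mono
  normalizer_le_normalizer_o2)
open Cfsg.Agent.Omega.MinPar Cfsg.Agent.Omega.Frame Cfsg.Agent.Omega.FrameNOFF
open Cfsg.Agent.Omega.NO3b.Bang (le_normalizer_sup cent_symm)
open Cfsg.Agent.Omega.NOThreeL.Star (YS le_YS S_le_YS zl_mono)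
open Cfsg.Agent.Omega.NO3S.EThree.ExactA (eab_iff eab_mono)
open Cfsg.Agent.Omega.EK3.Rank (NoOn)
open Cfsg.Agent.Omega.NoFF.Basic (comm_symm)
open Cfsg.Agent.Omega.GI (relIndex_congr relIndex_sup_of_comm)
open Cfsg.Agent.MinSimple.VModule (zc_le_zl le_normalizer_zl zl_le zc_le zc_sq zc_comm mem_zc le_centralizer_zc
  le_normalizer_o2 o2_isPGroup o2_le le_o2 normalizer_le_normalizer_zc)
open Cfsg.Agent.Omega.NOThreeL.RZ.TwoC.Loc (gml o2C_le inf_cent_le norm_inf)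
open Cfsg.Agent.Omega.NOThreeL.RZ.TwoC.SideP (NoA TwoP)

universe u

variable {G : Type u} [Group G]

/-- **The frame**, without `B ∩ R = 1`. -/
structure FrP [Finite G] (S : Sylow 2 G) (R B : Subgroup G) (e : G) : Prop where
  ctx : Ctx G
  full : Full (S : Subgroup G)
  nR : YS (S : Subgroup G) ≤ normalizer (R : Set G)
  nB : YS (S : Subgroup G) ≤ normalizer (B : Set G)
  sE : centralizer ({e} : Set G) ⊓ normalizer ((S : Subgroup G) : Set G) ≤ normalizer (R : Set G) ⊓ normalizer (B : Set G)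
  sZ : centralizer ((R ⊓ zc (S : Subgroup G) : Subgroup G) : Set G) ⊓ normalizer ((S : Subgroup G) : Set G) ≤
    normalizer (R : Set G) ⊓ normalizer (B : Set G)
  RV : R ≤ zl (S : Subgroup G) (YS S)
  BV : B ≤ zl (S : Subgroup G) (YS S)
  ne : R ⊓ zc (S : Subgroup G) ≠ ⊥
  hA : ∀ A ∈ AA (o2 (CZ (S : Subgroup G))), A ≤ centralizer (R : Set G)
  low : zl (S : Subgroup G) (YS S) ≤ o2 (CZ (S : Subgroup G))
  vc : zl (S : Subgroup G) (YS S) ≤ centralizer (zl (S : Subgroup G) (YS S) : Set G)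
  vs : ∀ v ∈ zl (S : Subgroup G) (YS S), v ^ 2 = 1
  eZ : e ∈ zc (S : Subgroup G)
  eB : e ∈ B
  e1 : e ≠ 1
  tr : YS (S : Subgroup G) ≤ (YS (S : Subgroup G) ⊓ centralizer (R : Set G)) ⊔
    (YS (S : Subgroup G) ⊓ centralizer ({e} : Set G))

/-- **The frame.** -/
structure FrE [Finite G] (S : Sylow 2 G) (R B : Subgroup G) (e : G) : Prop extends FrP S R B e where
  spl : B ⊓ R = ⊥

/-- `N_G(S)` normalises `⟨P*(S)⟩`. -/
theorem nS_ys [Finite G] {S : Sylow 2 G} :
    normalizer ((S : Subgroup G) : Set G) ≤ normalizer (YS (S : Subgroup G) : Set G) := by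
  intro n hn
  refine mem_normalizer_of_cj_le ?_
  rw [cj, map_le_iff_le_comap]
  refine sSup_le fun P hP => ?_
  rw [← map_le_iff_le_comap]
  exact le_YS ((FrameNOFF.inv S).nF n hn P hP)

namespace FrP

variable [Finite G] {S : Sylow 2 G} {R B : Subgroup G} {e : G} (h : FrP S R B e)
include h

theorem S_le_ys : (S : Subgroup G) ≤ YS (S : Subgroup G) := S_le_YS h.ctx h.full

theorem vel : IsElementaryAbelian 2 (zl (S : Subgroup G) (YS S)) := eab_iff.2 ⟨h.vc, h.vs⟩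

theorem vS : zl (S : Subgroup G) (YS S) ≤ (S : Subgroup G) := h.low.trans o2C_le

theorem R2 : IsPGroup 2 R := S.isPGroup'.to_le (h.RV.trans h.vS)

theorem R1 : R ≠ ⊥ := fun e => h.ne (by rw [e, bot_inf_eq])

theorem zc_ne : zc (S : Subgroup G) ≠ ⊥ := MinSimple.Basic.zc_ne_bot S.isPGroup' (h.ctx.sylow_ne_bot S)

theorem kg {X : Subgroup G} (hL : IsLoc (S : Subgroup G) X) : IsKGroup X :=
  ML.GNN.kgroup_of_isLoc h.ctx h.ctx.not_isPGroup hL

/-! ### `K₁`, `K₂` -/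

theorem C1 : CZ (S : Subgroup G) ≤ centralizer ({e} : Set G) := centralizer_le (Set.singleton_subset_iff.2 h.eZ)

theorem C2 : CZ (S : Subgroup G) ≤ centralizer ((R ⊓ zc (S : Subgroup G) : Subgroup G) : Set G) :=
  centralizer_le inf_le_right

theorem lK1 : IsLoc (S : Subgroup G) (centralizer ({e} : Set G)) := RZ.LowR.isLoc_cent h.eZ h.e1

theorem lK2 : IsLoc (S : Subgroup G) (centralizer ((R ⊓ zc (S : Subgroup G) : Subgroup G) : Set G)) :=
  isLoc_of_le_normalizer S ((le_CZ S).trans h.C2) (h.R2.to_le inf_le_left) h.ne (centralizer_le_normalizer _)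

theorem RK : centralizer (R : Set G) ≤ centralizer ((R ⊓ zc (S : Subgroup G) : Subgroup G) : Set G) :=
  centralizer_le inf_le_left

/-- `Y C_G(R)` is local -/
theorem lX : IsLoc (S : Subgroup G) (YS (S : Subgroup G) ⊔ centralizer (R : Set G)) :=
  isLoc_of_le_normalizer S (h.S_le_ys.trans le_sup_left) h.R2 h.R1 (sup_le h.nR (centralizer_le_normalizer _))

/-- **`⟨K₁, C_Y(R)⟩` is nonlocal** -/
theorem nl {U : Subgroup G} (hU : IsPGroup 2 U) (h1 : centralizer ({e} : Set G) ≤ normalizer (U : Set G))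
    (h2 : YS (S : Subgroup G) ⊓ centralizer (R : Set G) ≤ normalizer (U : Set G)) : U = ⊥ := by
  refine eq_bot_of_norm h.ctx S h.full hU (fun P hP => ?_) (h.C1.trans h1)
  exact (le_YS hP).trans (h.tr.trans (sup_le h2 (inf_le_right.trans h1)))

/-- `⟨K₁, K₂⟩` is nonlocal -/
theorem nonLoc : NonLoc (centralizer ({e} : Set G)) (centralizer ((R ⊓ zc (S : Subgroup G) : Subgroup G) : Set G)) :=
  fun _ hU h1 h2 => h.nl hU h1 ((inf_le_right.trans h.RK).trans h2)

/-- `P ∈ P(S)`, `P ≤ K` is in `C` or in `Y` -/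
theorem le_of_par {P : Subgroup G} (hP : IsPar (S : Subgroup G) P) : P ≤ CZ (S : Subgroup G) ∨
    (IsParS (S : Subgroup G) P ∧ P ≤ YS (S : Subgroup G)) := by
  by_cases hz : P ≤ normalizer (zc (S : Subgroup G) : Set G)
  · exact Or.inl (Nz.le_centralizer_of hP hz)
  · exact Or.inr ⟨⟨hP, hz⟩, le_YS ⟨hP, hz⟩⟩

/-! ### `V* ≤ A` -/

/-- **`O₂(C_G(R))` centralises `V*`** -/
theorem QR_cent : o2 (centralizer (R : Set G)) ≤ centralizer (zl (S : Subgroup G) (YS S) : Set G) := by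
  have hn : YS (S : Subgroup G) ≤ normalizer (o2 (centralizer (R : Set G)) : Set G) :=
    (h.nR.trans (nc _)).trans (normalizer_le_normalizer_o2 _)
  have hS : o2 (centralizer (R : Set G)) ≤ (S : Subgroup G) :=
    le_of_le_normalizer S (o2_isPGroup _) (h.S_le_ys.trans hn)
  refine comm_symm (zl_le (comm_symm (hS.trans (le_CZ S))) ?_)
  exact hn.trans (nc _)

/-- `O₂(K) ∩ C_G(R) ≤ O₂(C_G(R))` for `K ≥ C_G(R)` -/
theorem inf_le_QR {K : Subgroup G} (hK : centralizer (R : Set G) ≤ K) :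
    o2 K ⊓ centralizer (R : Set G) ≤ o2 (centralizer (R : Set G)) :=
  le_o2 inf_le_right ((o2_isPGroup _).to_le inf_le_left)
    (le_trans (le_inf (hK.trans (le_normalizer_o2 _)) Subgroup.le_normalizer) inf_normalizer_le_normalizer_inf)

theorem inf_le_QB {K : Subgroup G} (hK : centralizer (B : Set G) ≤ K) :
    o2 K ⊓ centralizer (B : Set G) ≤ o2 (centralizer (B : Set G)) :=
  le_o2 inf_le_right ((o2_isPGroup _).to_le inf_le_left)
    (le_trans (le_inf (hK.trans (le_normalizer_o2 _)) Subgroup.le_normalizer) inf_normalizer_le_normalizer_inf)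

theorem BK : centralizer (B : Set G) ≤ centralizer ({e} : Set G) :=
  centralizer_le (Set.singleton_subset_iff.2 h.eB)

/-- `NR = ⟨Z^{Y C_G(R)}⟩ ≤ W₂` -/
theorem NR_le : zl (S : Subgroup G) (YS (S : Subgroup G) ⊔ centralizer (R : Set G)) ≤
    hul (zl (S : Subgroup G) (YS S)) (centralizer ((R ⊓ zc (S : Subgroup G) : Subgroup G) : Set G)) := by
  refine le_trans (zl_le ((zc_le_zl _ _).trans (le_hul (zl (S : Subgroup G) (YS S)) (centralizer (R : Set G)))) ?_)
    (hul_mono h.RK)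
  exact sup_le (norm_hul (le_normalizer_zl _ _) (h.nR.trans (nc _))) (le_normalizer_hul _ _)

variable (hM : MLK.{u, u})
include hM

/-- every `A ∈ AA(C_O(⟨Z^{K₂}⟩))` centralises `V*` -/
theorem cent_V {A : Subgroup G} (hA : A ∈ AA (o2 (CZ (S : Subgroup G)) ⊓
    centralizer (zl (S : Subgroup G) (centralizer ((R ⊓ zc (S : Subgroup G) : Subgroup G) : Set G)) : Set G))) :
    A ≤ centralizer (zl (S : Subgroup G) (YS S) : Set G) := by
  have hU := h.lK2.zl_le S h.ctx.char2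
  have hO2 : o2 (centralizer ((R ⊓ zc (S : Subgroup G) : Subgroup G) : Set G)) ≤ o2 (CZ (S : Subgroup G)) :=
    o2_le_o2 S (le_CZ S) h.C2
  have hel : IsElementaryAbelian 2 (zl (S : Subgroup G) (centralizer ((R ⊓ zc (S : Subgroup G) : Subgroup G) : Set G))) :=
    eab_iff.2 ⟨fun x hx => mem_centralizer_iff.2 fun y hy => zc_comm _ _ (hU hy) _ (hU hx), fun x hx => zc_sq _ _ (hU hx)⟩
  have h1 : A ∈ AA (o2 (CZ (S : Subgroup G))) :=
    EK3.Rank.mem_AA_of_inf hel ((hU.trans (zc_le _)).trans hO2)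
      (fun A' hel' hA' => gml hM h.ctx h.lK2 (h.kg h.lK2) hA' (eab_iff.1 hel').2) hA
  have h2 : A ≤ o2 (centralizer ((R ⊓ zc (S : Subgroup G) : Subgroup G) : Set G)) :=
    hA.2.1.trans (inf_cent_le h.lK2.le (zc_le_zl _ _) (le_normalizer_zl _ _))
  exact ((le_inf h2 (h.hA A h1)).trans (h.inf_le_QR h.RK)).trans h.QR_cent

/-- `W₂`: contained in every `A ∈ AA(C_O(⟨Z^{K₂}⟩))`, elementary abelian, `≤ O`, `(NO)` -/
theorem W2 :
    (∀ A ∈ AA (o2 (CZ (S : Subgroup G)) ⊓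
      centralizer (zl (S : Subgroup G) (centralizer ((R ⊓ zc (S : Subgroup G) : Subgroup G) : Set G)) : Set G)),
      hul (zl (S : Subgroup G) (YS S)) (centralizer ((R ⊓ zc (S : Subgroup G) : Subgroup G) : Set G)) ≤ A) ∧
    IsElementaryAbelian 2
      (hul (zl (S : Subgroup G) (YS S)) (centralizer ((R ⊓ zc (S : Subgroup G) : Subgroup G) : Set G))) ∧
    hul (zl (S : Subgroup G) (YS S)) (centralizer ((R ⊓ zc (S : Subgroup G) : Subgroup G) : Set G)) ≤
      o2 (CZ (S : Subgroup G)) ∧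
    NoA (o2 (CZ (S : Subgroup G)))
      (hul (zl (S : Subgroup G) (YS S)) (centralizer ((R ⊓ zc (S : Subgroup G) : Subgroup G) : Set G))) := by
  have hU := h.lK2.zl_le S h.ctx.char2
  have hO2 : o2 (centralizer ((R ⊓ zc (S : Subgroup G) : Subgroup G) : Set G)) ≤ o2 (CZ (S : Subgroup G)) :=
    o2_le_o2 S (le_CZ S) h.C2
  refine SideP.noA_hul (U := zl (S : Subgroup G) (centralizer ((R ⊓ zc (S : Subgroup G) : Subgroup G) : Set G)))
    (eab_iff.2 ⟨fun x hx => mem_centralizer_iff.2 fun y hy => zc_comm _ _ (hU hy) _ (hU hx),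
      fun x hx => zc_sq _ _ (hU hx)⟩) ((hU.trans (zc_le _)).trans hO2)
    (fun A hA => gml hM h.ctx h.lK2 (h.kg h.lK2) hA.2.1 (eab_iff.1 hA.1).2)
    (norm_inf h.C2 (zc_le_zl _ _) (le_normalizer_zl _ _)) h.vel h.low ?_ fun A hA => h.cent_V hM hA
  exact zl_le ((zc_le_zl _ _).trans (le_hul _ _)) (le_normalizer_hul _ _)

/-- **The two sides.** -/
theorem twoP :
    TwoP (o2 (CZ (S : Subgroup G))) (CZ (S : Subgroup G)) (centralizer ({e} : Set G))
      (centralizer ((R ⊓ zc (S : Subgroup G) : Subgroup G) : Set G))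
      ((centralizer ({e} : Set G) ⊓ YS (S : Subgroup G)) ⊔
        (centralizer ({e} : Set G) ⊓ normalizer ((S : Subgroup G) : Set G)))
      (YS (S : Subgroup G) ⊓ centralizer (R : Set G))
      (zl (S : Subgroup G) (centralizer ({e} : Set G)))
      (hul (zl (S : Subgroup G) (YS S)) (centralizer ((R ⊓ zc (S : Subgroup G) : Subgroup G) : Set G)))
      (zl (S : Subgroup G) (YS (S : Subgroup G) ⊔ centralizer (R : Set G)))
      (o2 (centralizer (B : Set G))) := by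
  have hO1 : o2 (centralizer ({e} : Set G)) ≤ o2 (CZ (S : Subgroup G)) := o2_le_o2 S (le_CZ S) h.C1
  have hz1 := h.lK1.zl_le S h.ctx.char2
  have hVW : zl (S : Subgroup G) (YS S) ≤
      hul (zl (S : Subgroup G) (YS S)) (centralizer ((R ⊓ zc (S : Subgroup G) : Subgroup G) : Set G)) := le_hul _ _
  obtain ⟨_, w1, w2, w3⟩ := h.W2 hM
  exact
  { D1 := h.C1
    D2 := h.C2
    e1 := sup_le inf_le_left inf_le_left
    g1 := by
      refine h.lK1.le_of_forall S (le_sup_right.trans le_sup_right) fun P hP hPK => ?_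
      rcases h.le_of_par hP with h1 | h1
      · exact h1.trans le_sup_left
      · exact ((le_inf hPK h1.2).trans le_sup_left).trans le_sup_right
    e2 := inf_le_right.trans h.RK
    el1 := eab_iff.2 ⟨fun x hx => mem_centralizer_iff.2 fun y hy => zc_comm _ _ (hz1 hy) _ (hz1 hx),
      fun x hx => zc_sq _ _ (hz1 hx)⟩
    el2 := w1
    UO := (hz1.trans (zc_le _)).trans hO1
    WO := w2
    KU := le_normalizer_zl _ _
    KW := le_normalizer_hul _ _
    q1 := norm_inf h.C1 (zc_le_zl _ _) (le_normalizer_zl _ _)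
    q2 := norm_inf h.C2 ((zc_le_zl _ _).trans hVW) (le_normalizer_hul _ _)
    core1 := by
      intro X hX hn
      have h1 : X ≤ o2 (centralizer ({e} : Set G)) := le_o2 (hX.trans ((o2_le _).trans h.C1)) ((o2_isPGroup _).to_le hX) hn
      intro x hx
      rw [mem_centralizer_iff]
      intro y hy
      exact ((mem_zc.1 (hz1 hy)).2.1 _ (h1 hx)).symm
    no1 := fun A hA => gml hM h.ctx h.lK1 (h.kg h.lK1) hA.2.1 (eab_iff.1 hA.1).2
    no2 := w3
    RW := h.NR_le
    ER := by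
      refine sup_le (inf_le_right.trans (le_sup_left.trans (le_normalizer_zl _ _))) ?_
      intro n hn'
      have hn := hn'.2
      have hnR := (h.sE hn').1
      have h1 : cj n (zl (S : Subgroup G) (YS (S : Subgroup G) ⊔ centralizer (R : Set G))) =
          zl (cj n (S : Subgroup G)) (cj n (YS (S : Subgroup G) ⊔ centralizer (R : Set G))) :=
        (MinSimple.CosetFam.zl_conj n _ _).symm
      rw [mem_normalizer_iff_cj, h1, cj_eq_of_mem_normalizer hn,
        cj_eq_of_mem_normalizer (le_normalizer_sup (A := zpowers n) (by rw [zpowers_le]; exact nS_ys hn)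
          (by rw [zpowers_le]; exact nc _ hnR) (mem_zpowers n))]
    noR := fun A hA => gml hM h.ctx h.lX (h.kg h.lX) (hA.2.1.trans inf_le_left) (eab_iff.1 hA.1).2
    qB := by
      refine le_trans (le_inf ?_ ?_) (h.inf_le_QB h.BK)
      · exact inf_le_left.trans (inf_cent_le h.lK1.le (zc_le_zl _ _) (le_normalizer_zl _ _))
      · exact inf_le_right.trans (centralizer_le (h.BV.trans hVW))
    EQ := (inf_le_left.trans h.nB).trans ((nc _).trans (normalizer_le_normalizer_o2 _))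
    nonloc := fun X hX h1 h2 => h.nl ((o2_isPGroup _).to_le hX) h1 h2
    ne := fun e => h.zc_ne (le_bot_iff.1 (e ▸ zc_le_zl _ _)) }

/-- **(alpha) or (beta).** -/
theorem main :
    (∃ A ∈ AA (o2 (CZ (S : Subgroup G))), zl (S : Subgroup G) (centralizer ({e} : Set G)) ≤ A ∧
      A ≤ o2 (centralizer ({e} : Set G)) ∧ ∃ F : Subgroup G, F ≤ A ∧ F ≤ o2 (centralizer (R : Set G)) ∧
      ¬ F ≤ centralizer
        (hul (zl (S : Subgroup G) (YS S)) (centralizer ((R ⊓ zc (S : Subgroup G) : Subgroup G) : Set G)) : Set G) ∧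
      (centralizer (hul (zl (S : Subgroup G) (YS S))
        (centralizer ((R ⊓ zc (S : Subgroup G) : Subgroup G) : Set G)) : Set G)).relIndex F =
        (centralizer (F : Set G)).relIndex
          (hul (zl (S : Subgroup G) (YS S)) (centralizer ((R ⊓ zc (S : Subgroup G) : Subgroup G) : Set G)))) ∨
    (∃ X₁ : Subgroup G, IsElementaryAbelian 2 X₁ ∧ centralizer ({e} : Set G) ≤ normalizer (X₁ : Set G) ∧
      zl (S : Subgroup G) (YS S) ≤ X₁ ∧ zl (S : Subgroup G) (centralizer ({e} : Set G)) ≤ X₁ ∧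
      X₁ ≤ o2 (CZ (S : Subgroup G)) ∧
      ∃ F ∈ AA (o2 (CZ (S : Subgroup G))), zl (S : Subgroup G) (YS S) ≤ F ∧
        F ≤ o2 (centralizer ((R ⊓ zc (S : Subgroup G) : Subgroup G) : Set G)) ∧
        F ≤ o2 (centralizer (B : Set G)) ∧
        ¬ F ≤ centralizer (zl (S : Subgroup G) (centralizer ({e} : Set G)) : Set G) ∧
        ¬ F ≤ o2 (centralizer ({e} : Set G)) ∧
        F ⊓ centralizer (zl (S : Subgroup G) (centralizer ({e} : Set G)) : Set G) ≤ centralizer (X₁ : Set G) ∧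
        (centralizer (X₁ : Set G)).relIndex F = (centralizer (F : Set G)).relIndex X₁) := by
  have D := h.twoP hM
  have hVW : zl (S : Subgroup G) (YS S) ≤
      hul (zl (S : Subgroup G) (YS S)) (centralizer ((R ⊓ zc (S : Subgroup G) : Subgroup G) : Set G)) := le_hul _ _
  rcases D.main with ⟨A, hA, hAO, hU, hm, he⟩ | ⟨X₁, _, hel, hn, hW, hU, hO, _, _, F, hF, hFO, hWF, hQ, hm, hc, he⟩
  · refine Or.inl ⟨A, hAO, hU, hA.2.1.trans (inf_cent_le h.lK1.le (zc_le_zl _ _) (le_normalizer_zl _ _)), _,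
      inf_le_left, ?_, hm, he⟩
    have h1 : A ⊓ centralizer (zl (S : Subgroup G) (YS (S : Subgroup G) ⊔ centralizer (R : Set G)) : Set G) ≤
        o2 (YS (S : Subgroup G) ⊔ centralizer (R : Set G)) :=
      (inf_le_inf_right _ hAO.2.1).trans (inf_cent_le h.lX.le (zc_le_zl _ _) (le_normalizer_zl _ _))
    exact (le_inf h1 (inf_le_left.trans (h.hA A hAO))).trans (h.inf_le_QR le_sup_right)
  · refine Or.inr ⟨X₁, hel, hn, hVW.trans hW, hU, hO, F, hFO, hVW.trans hWF, ?_, hQ, hm, ?_, hc, he⟩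
    · exact hF.2.1.trans (inf_cent_le h.lK2.le ((zc_le_zl _ _).trans hVW) (le_normalizer_hul _ _))
    · intro hcon
      apply hm
      have hz1 := h.lK1.zl_le S h.ctx.char2
      intro x hx
      rw [mem_centralizer_iff]
      intro y hy
      exact ((mem_zc.1 (hz1 hy)).2.1 _ (hcon hx)).symm

end FrP

/-- **(alpha) or (beta).** -/
theorem FrE.main [Finite G] {S : Sylow 2 G} {R B : Subgroup G} {e : G} (h : FrE S R B e) (hM : MLK.{u, u}) :
    (∃ A ∈ AA (o2 (CZ (S : Subgroup G))), zl (S : Subgroup G) (centralizer ({e} : Set G)) ≤ A ∧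
      A ≤ o2 (centralizer ({e} : Set G)) ∧ ∃ F : Subgroup G, F ≤ A ∧ F ≤ o2 (centralizer (R : Set G)) ∧
      ¬ F ≤ centralizer
        (hul (zl (S : Subgroup G) (YS S)) (centralizer ((R ⊓ zc (S : Subgroup G) : Subgroup G) : Set G)) : Set G) ∧
      (centralizer (hul (zl (S : Subgroup G) (YS S))
        (centralizer ((R ⊓ zc (S : Subgroup G) : Subgroup G) : Set G)) : Set G)).relIndex F =
        (centralizer (F : Set G)).relIndex
          (hul (zl (S : Subgroup G) (YS S)) (centralizer ((R ⊓ zc (S : Subgroup G) : Subgroup G) : Set G)))) ∨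
    (∃ X₁ : Subgroup G, IsElementaryAbelian 2 X₁ ∧ centralizer ({e} : Set G) ≤ normalizer (X₁ : Set G) ∧
      zl (S : Subgroup G) (YS S) ≤ X₁ ∧ zl (S : Subgroup G) (centralizer ({e} : Set G)) ≤ X₁ ∧
      X₁ ≤ o2 (CZ (S : Subgroup G)) ∧
      ∃ F ∈ AA (o2 (CZ (S : Subgroup G))), zl (S : Subgroup G) (YS S) ≤ F ∧
        F ≤ o2 (centralizer ((R ⊓ zc (S : Subgroup G) : Subgroup G) : Set G)) ∧
        F ≤ o2 (centralizer (B : Set G)) ∧
        ¬ F ≤ centralizer (zl (S : Subgroup G) (centralizer ({e} : Set G)) : Set G) ∧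
        ¬ F ≤ o2 (centralizer ({e} : Set G)) ∧
        F ⊓ centralizer (zl (S : Subgroup G) (centralizer ({e} : Set G)) : Set G) ≤ centralizer (X₁ : Set G) ∧
        (centralizer (X₁ : Set G)).relIndex F = (centralizer (F : Set G)).relIndex X₁) :=
  h.toFrP.main hM

/-- `N_G(S)` normalises `R` and `B`. -/
theorem FrE.of_norm [Finite G] {S : Sylow 2 G} {R B : Subgroup G} {e : G} (ctx : Ctx G) (full : Full (S : Subgroup G))
    (nR : YS (S : Subgroup G) ≤ normalizer (R : Set G)) (nB : YS (S : Subgroup G) ≤ normalizer (B : Set G))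
    (sR : normalizer ((S : Subgroup G) : Set G) ≤ normalizer (R : Set G))
    (sB : normalizer ((S : Subgroup G) : Set G) ≤ normalizer (B : Set G))
    (RV : R ≤ zl (S : Subgroup G) (YS S)) (BV : B ≤ zl (S : Subgroup G) (YS S)) (ne : R ⊓ zc (S : Subgroup G) ≠ ⊥)
    (hA : ∀ A ∈ AA (o2 (CZ (S : Subgroup G))), A ≤ centralizer (R : Set G))
    (low : zl (S : Subgroup G) (YS S) ≤ o2 (CZ (S : Subgroup G)))
    (vc : zl (S : Subgroup G) (YS S) ≤ centralizer (zl (S : Subgroup G) (YS S) : Set G))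
    (vs : ∀ v ∈ zl (S : Subgroup G) (YS S), v ^ 2 = 1) (spl : B ⊓ R = ⊥) (eZ : e ∈ zc (S : Subgroup G)) (eB : e ∈ B)
    (e1 : e ≠ 1) (tr : YS (S : Subgroup G) ≤ (YS (S : Subgroup G) ⊓ centralizer (R : Set G)) ⊔
      (YS (S : Subgroup G) ⊓ centralizer ({e} : Set G))) : FrE S R B e :=
  { ctx := ctx, full := full, nR := nR, nB := nB
    sE := le_inf (inf_le_right.trans sR) (inf_le_right.trans sB)
    sZ := le_inf (inf_le_right.trans sR) (inf_le_right.trans sB)
    RV := RV, BV := BV, ne := ne, hA := hA, low := low, vc := vc, vs := vs, eZ := eZ, eB := eB, e1 := e1, tr := tr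
    spl := spl }

end Cfsg.Agent.Omega.NOThreeL.RZ.TwoC

end

section


/-!
# [K], [H], [I3], [R-z] (bb #25243, #25865, #25809, #26172): the frame with a variable centre `Z₀`

As `AbP.lean` (helper652), but `Z₀ ≤ R ∩ Z` is a variable: `K₁ = C_G(e)`, `K₂ = C_G(Z₀)`, and only the members of
`AA(O)` which lie in `O₂(K₂)` are assumed to centralise `R`.

* `FrV S R B Z₀ e` : the frame;  **`FrV.main`** : (alpha) or (beta);
* `FrV.altR`, `altB` : `P ∈ P*(S)`: `C_S(R) ≤ O₂(P)` or `P = C_P(R) S` (and the same for `B`);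
* `FrV.le_o2_one`, `le_o2_two`, `sep`.
-/

set_option autoImplicit false
set_option linter.unusedSectionVars false

namespace Cfsg.Agent.Omega.NOThreeL.RZ.TwoC

open Subgroup Cfsg
open Cfsg.Agent.ZN (o2 zc zl jj)
open Cfsg.Agent.ZN.ChoiceBase hiding mem_zc
open Cfsg.Agent.Omega.ML.Final (MLK)
open Cfsg.Agent.Omega.ML.GMod (hul hul_le hul_le_of le_hul cj_le_hul le_normalizer_hul nc ri_mono
  normalizer_le_normalizer_o2)
open Cfsg.Agent.Omega.MinPar Cfsg.Agent.Omega.Frame Cfsg.Agent.Omega.FrameNOFF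
open Cfsg.Agent.Omega.NO3b.Bang (le_normalizer_sup cent_symm)
open Cfsg.Agent.Omega.NOThreeL.Star (YS le_YS S_le_YS zl_mono)
open Cfsg.Agent.Omega.NO3S.EThree.ExactA (eab_iff eab_mono)
open Cfsg.Agent.Omega.EK3.Rank (NoOn)
open Cfsg.Agent.Omega.NoFF.Basic (comm_symm)
open Cfsg.Agent.Omega.GI (relIndex_congr relIndex_sup_of_comm)
open Cfsg.Agent.MinSimple.VModule (zc_le_zl le_normalizer_zl zl_le zc_le zc_sq zc_comm mem_zc le_centralizer_zc
  le_normalizer_o2 o2_isPGroup o2_le le_o2 normalizer_le_normalizer_zc)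
open Cfsg.Agent.Omega.NOThreeL.RZ.TwoC.Loc (gml o2C_le inf_cent_le norm_inf)
open Cfsg.Agent.Omega.NOThreeL.RZ.TwoC.SideP (NoA TwoP)

universe u

variable {G : Type u} [Group G]

/-- **The frame.** -/
structure FrV [Finite G] (S : Sylow 2 G) (R B Z₀ : Subgroup G) (e : G) : Prop where
  ctx : Ctx G
  full : Full (S : Subgroup G)
  nR : YS (S : Subgroup G) ≤ normalizer (R : Set G)
  nB : YS (S : Subgroup G) ≤ normalizer (B : Set G)
  sE : centralizer ({e} : Set G) ⊓ normalizer ((S : Subgroup G) : Set G) ≤ normalizer (R : Set G) ⊓ normalizer (B : Set G)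
  sZ : centralizer (Z₀ : Set G) ⊓ normalizer ((S : Subgroup G) : Set G) ≤
    normalizer (R : Set G) ⊓ normalizer (B : Set G)
  RV : R ≤ zl (S : Subgroup G) (YS S)
  BV : B ≤ zl (S : Subgroup G) (YS S)
  Z0R : Z₀ ≤ R ⊓ zc (S : Subgroup G)
  ne : Z₀ ≠ ⊥
  hA : ∀ A ∈ AA (o2 (CZ (S : Subgroup G))), A ≤ o2 (centralizer (Z₀ : Set G)) → A ≤ centralizer (R : Set G)
  low : zl (S : Subgroup G) (YS S) ≤ o2 (CZ (S : Subgroup G))
  vc : zl (S : Subgroup G) (YS S) ≤ centralizer (zl (S : Subgroup G) (YS S) : Set G)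
  vs : ∀ v ∈ zl (S : Subgroup G) (YS S), v ^ 2 = 1
  eZ : e ∈ zc (S : Subgroup G)
  eB : e ∈ B
  e1 : e ≠ 1
  tr : YS (S : Subgroup G) ≤ (YS (S : Subgroup G) ⊓ centralizer (R : Set G)) ⊔
    (YS (S : Subgroup G) ⊓ centralizer ({e} : Set G))
  spl : B ⊓ R = ⊥

namespace FrV

variable [Finite G] {S : Sylow 2 G} {R B Z₀ : Subgroup G} {e : G} (h : FrV S R B Z₀ e)
include h

theorem S_le_ys : (S : Subgroup G) ≤ YS (S : Subgroup G) := S_le_YS h.ctx h.full

theorem vel : IsElementaryAbelian 2 (zl (S : Subgroup G) (YS S)) := eab_iff.2 ⟨h.vc, h.vs⟩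

theorem vS : zl (S : Subgroup G) (YS S) ≤ (S : Subgroup G) := h.low.trans o2C_le

theorem R2 : IsPGroup 2 R := S.isPGroup'.to_le (h.RV.trans h.vS)

theorem R1 : R ≠ ⊥ := fun e => h.ne (le_bot_iff.1 (e ▸ h.Z0R.trans inf_le_left))

theorem zc_ne : zc (S : Subgroup G) ≠ ⊥ := MinSimple.Basic.zc_ne_bot S.isPGroup' (h.ctx.sylow_ne_bot S)

theorem kg {X : Subgroup G} (hL : IsLoc (S : Subgroup G) X) : IsKGroup X :=
  ML.GNN.kgroup_of_isLoc h.ctx h.ctx.not_isPGroup hL

/-! ### `K₁`, `K₂` -/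

theorem C1 : CZ (S : Subgroup G) ≤ centralizer ({e} : Set G) := centralizer_le (Set.singleton_subset_iff.2 h.eZ)

theorem C2 : CZ (S : Subgroup G) ≤ centralizer (Z₀ : Set G) :=
  centralizer_le (h.Z0R.trans inf_le_right)

theorem lK1 : IsLoc (S : Subgroup G) (centralizer ({e} : Set G)) := RZ.LowR.isLoc_cent h.eZ h.e1

theorem lK2 : IsLoc (S : Subgroup G) (centralizer (Z₀ : Set G)) :=
  isLoc_of_le_normalizer S ((le_CZ S).trans h.C2) (h.R2.to_le (h.Z0R.trans inf_le_left)) h.ne (centralizer_le_normalizer _)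

theorem RK : centralizer (R : Set G) ≤ centralizer (Z₀ : Set G) :=
  centralizer_le (h.Z0R.trans inf_le_left)

/-- `Y C_G(R)` is local -/
theorem lX : IsLoc (S : Subgroup G) (YS (S : Subgroup G) ⊔ centralizer (R : Set G)) :=
  isLoc_of_le_normalizer S (h.S_le_ys.trans le_sup_left) h.R2 h.R1 (sup_le h.nR (centralizer_le_normalizer _))

/-- **`⟨K₁, C_Y(R)⟩` is nonlocal** -/
theorem nl {U : Subgroup G} (hU : IsPGroup 2 U) (h1 : centralizer ({e} : Set G) ≤ normalizer (U : Set G))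
    (h2 : YS (S : Subgroup G) ⊓ centralizer (R : Set G) ≤ normalizer (U : Set G)) : U = ⊥ := by
  refine eq_bot_of_norm h.ctx S h.full hU (fun P hP => ?_) (h.C1.trans h1)
  exact (le_YS hP).trans (h.tr.trans (sup_le h2 (inf_le_right.trans h1)))

/-- `⟨K₁, K₂⟩` is nonlocal -/
theorem nonLoc : NonLoc (centralizer ({e} : Set G)) (centralizer (Z₀ : Set G)) :=
  fun _ hU h1 h2 => h.nl hU h1 ((inf_le_right.trans h.RK).trans h2)

/-- `P ∈ P(S)`, `P ≤ K` is in `C` or in `Y` -/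
theorem le_of_par {P : Subgroup G} (hP : IsPar (S : Subgroup G) P) : P ≤ CZ (S : Subgroup G) ∨
    (IsParS (S : Subgroup G) P ∧ P ≤ YS (S : Subgroup G)) := by
  by_cases hz : P ≤ normalizer (zc (S : Subgroup G) : Set G)
  · exact Or.inl (Nz.le_centralizer_of hP hz)
  · exact Or.inr ⟨⟨hP, hz⟩, le_YS ⟨hP, hz⟩⟩

/-! ### `V* ≤ A` -/

/-- **`O₂(C_G(R))` centralises `V*`** -/
theorem QR_cent : o2 (centralizer (R : Set G)) ≤ centralizer (zl (S : Subgroup G) (YS S) : Set G) := by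
  have hn : YS (S : Subgroup G) ≤ normalizer (o2 (centralizer (R : Set G)) : Set G) :=
    (h.nR.trans (nc _)).trans (normalizer_le_normalizer_o2 _)
  have hS : o2 (centralizer (R : Set G)) ≤ (S : Subgroup G) :=
    le_of_le_normalizer S (o2_isPGroup _) (h.S_le_ys.trans hn)
  refine comm_symm (zl_le (comm_symm (hS.trans (le_CZ S))) ?_)
  exact hn.trans (nc _)

/-- `O₂(K) ∩ C_G(R) ≤ O₂(C_G(R))` for `K ≥ C_G(R)` -/
theorem inf_le_QR {K : Subgroup G} (hK : centralizer (R : Set G) ≤ K) :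
    o2 K ⊓ centralizer (R : Set G) ≤ o2 (centralizer (R : Set G)) :=
  le_o2 inf_le_right ((o2_isPGroup _).to_le inf_le_left)
    (le_trans (le_inf (hK.trans (le_normalizer_o2 _)) Subgroup.le_normalizer) inf_normalizer_le_normalizer_inf)

theorem inf_le_QB {K : Subgroup G} (hK : centralizer (B : Set G) ≤ K) :
    o2 K ⊓ centralizer (B : Set G) ≤ o2 (centralizer (B : Set G)) :=
  le_o2 inf_le_right ((o2_isPGroup _).to_le inf_le_left)
    (le_trans (le_inf (hK.trans (le_normalizer_o2 _)) Subgroup.le_normalizer) inf_normalizer_le_normalizer_inf)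

theorem BK : centralizer (B : Set G) ≤ centralizer ({e} : Set G) :=
  centralizer_le (Set.singleton_subset_iff.2 h.eB)

/-- `NR = ⟨Z^{Y C_G(R)}⟩ ≤ W₂` -/
theorem NR_le : zl (S : Subgroup G) (YS (S : Subgroup G) ⊔ centralizer (R : Set G)) ≤
    hul (zl (S : Subgroup G) (YS S)) (centralizer (Z₀ : Set G)) := by
  refine le_trans (zl_le ((zc_le_zl _ _).trans (le_hul (zl (S : Subgroup G) (YS S)) (centralizer (R : Set G)))) ?_)
    (hul_mono h.RK)
  exact sup_le (norm_hul (le_normalizer_zl _ _) (h.nR.trans (nc _))) (le_normalizer_hul _ _)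

variable (hM : MLK.{u, u})
include hM

/-- every `A ∈ AA(C_O(⟨Z^{K₂}⟩))` centralises `V*` -/
theorem cent_V {A : Subgroup G} (hA : A ∈ AA (o2 (CZ (S : Subgroup G)) ⊓
    centralizer (zl (S : Subgroup G) (centralizer (Z₀ : Set G)) : Set G))) :
    A ≤ centralizer (zl (S : Subgroup G) (YS S) : Set G) := by
  have hU := h.lK2.zl_le S h.ctx.char2
  have hO2 : o2 (centralizer (Z₀ : Set G)) ≤ o2 (CZ (S : Subgroup G)) :=
    o2_le_o2 S (le_CZ S) h.C2
  have hel : IsElementaryAbelian 2 (zl (S : Subgroup G) (centralizer (Z₀ : Set G))) :=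
    eab_iff.2 ⟨fun x hx => mem_centralizer_iff.2 fun y hy => zc_comm _ _ (hU hy) _ (hU hx), fun x hx => zc_sq _ _ (hU hx)⟩
  have h1 : A ∈ AA (o2 (CZ (S : Subgroup G))) :=
    EK3.Rank.mem_AA_of_inf hel ((hU.trans (zc_le _)).trans hO2)
      (fun A' hel' hA' => gml hM h.ctx h.lK2 (h.kg h.lK2) hA' (eab_iff.1 hel').2) hA
  have h2 : A ≤ o2 (centralizer (Z₀ : Set G)) :=
    hA.2.1.trans (inf_cent_le h.lK2.le (zc_le_zl _ _) (le_normalizer_zl _ _))
  exact ((le_inf h2 (h.hA A h1 h2)).trans (h.inf_le_QR h.RK)).trans h.QR_cent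

/-- `W₂`: contained in every `A ∈ AA(C_O(⟨Z^{K₂}⟩))`, elementary abelian, `≤ O`, `(NO)` -/
theorem W2 :
    (∀ A ∈ AA (o2 (CZ (S : Subgroup G)) ⊓
      centralizer (zl (S : Subgroup G) (centralizer (Z₀ : Set G)) : Set G)),
      hul (zl (S : Subgroup G) (YS S)) (centralizer (Z₀ : Set G)) ≤ A) ∧
    IsElementaryAbelian 2
      (hul (zl (S : Subgroup G) (YS S)) (centralizer (Z₀ : Set G))) ∧
    hul (zl (S : Subgroup G) (YS S)) (centralizer (Z₀ : Set G)) ≤
      o2 (CZ (S : Subgroup G)) ∧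
    NoA (o2 (CZ (S : Subgroup G)))
      (hul (zl (S : Subgroup G) (YS S)) (centralizer (Z₀ : Set G))) := by
  have hU := h.lK2.zl_le S h.ctx.char2
  have hO2 : o2 (centralizer (Z₀ : Set G)) ≤ o2 (CZ (S : Subgroup G)) :=
    o2_le_o2 S (le_CZ S) h.C2
  refine SideP.noA_hul (U := zl (S : Subgroup G) (centralizer (Z₀ : Set G)))
    (eab_iff.2 ⟨fun x hx => mem_centralizer_iff.2 fun y hy => zc_comm _ _ (hU hy) _ (hU hx),
      fun x hx => zc_sq _ _ (hU hx)⟩) ((hU.trans (zc_le _)).trans hO2)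
    (fun A hA => gml hM h.ctx h.lK2 (h.kg h.lK2) hA.2.1 (eab_iff.1 hA.1).2)
    (norm_inf h.C2 (zc_le_zl _ _) (le_normalizer_zl _ _)) h.vel h.low ?_ fun A hA => h.cent_V hM hA
  exact zl_le ((zc_le_zl _ _).trans (le_hul _ _)) (le_normalizer_hul _ _)

/-- **The two sides.** -/
theorem twoP :
    TwoP (o2 (CZ (S : Subgroup G))) (CZ (S : Subgroup G)) (centralizer ({e} : Set G))
      (centralizer (Z₀ : Set G))
      ((centralizer ({e} : Set G) ⊓ YS (S : Subgroup G)) ⊔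
        (centralizer ({e} : Set G) ⊓ normalizer ((S : Subgroup G) : Set G)))
      (YS (S : Subgroup G) ⊓ centralizer (R : Set G))
      (zl (S : Subgroup G) (centralizer ({e} : Set G)))
      (hul (zl (S : Subgroup G) (YS S)) (centralizer (Z₀ : Set G)))
      (zl (S : Subgroup G) (YS (S : Subgroup G) ⊔ centralizer (R : Set G)))
      (o2 (centralizer (B : Set G))) := by
  have hO1 : o2 (centralizer ({e} : Set G)) ≤ o2 (CZ (S : Subgroup G)) := o2_le_o2 S (le_CZ S) h.C1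
  have hz1 := h.lK1.zl_le S h.ctx.char2
  have hVW : zl (S : Subgroup G) (YS S) ≤
      hul (zl (S : Subgroup G) (YS S)) (centralizer (Z₀ : Set G)) := le_hul _ _
  obtain ⟨_, w1, w2, w3⟩ := h.W2 hM
  exact
  { D1 := h.C1
    D2 := h.C2
    e1 := sup_le inf_le_left inf_le_left
    g1 := by
      refine h.lK1.le_of_forall S (le_sup_right.trans le_sup_right) fun P hP hPK => ?_
      rcases h.le_of_par hP with h1 | h1
      · exact h1.trans le_sup_left
      · exact ((le_inf hPK h1.2).trans le_sup_left).trans le_sup_right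
    e2 := inf_le_right.trans h.RK
    el1 := eab_iff.2 ⟨fun x hx => mem_centralizer_iff.2 fun y hy => zc_comm _ _ (hz1 hy) _ (hz1 hx),
      fun x hx => zc_sq _ _ (hz1 hx)⟩
    el2 := w1
    UO := (hz1.trans (zc_le _)).trans hO1
    WO := w2
    KU := le_normalizer_zl _ _
    KW := le_normalizer_hul _ _
    q1 := norm_inf h.C1 (zc_le_zl _ _) (le_normalizer_zl _ _)
    q2 := norm_inf h.C2 ((zc_le_zl _ _).trans hVW) (le_normalizer_hul _ _)
    core1 := by
      intro X hX hn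
      have h1 : X ≤ o2 (centralizer ({e} : Set G)) := le_o2 (hX.trans ((o2_le _).trans h.C1)) ((o2_isPGroup _).to_le hX) hn
      intro x hx
      rw [mem_centralizer_iff]
      intro y hy
      exact ((mem_zc.1 (hz1 hy)).2.1 _ (h1 hx)).symm
    no1 := fun A hA => gml hM h.ctx h.lK1 (h.kg h.lK1) hA.2.1 (eab_iff.1 hA.1).2
    no2 := w3
    RW := h.NR_le
    ER := by
      refine sup_le (inf_le_right.trans (le_sup_left.trans (le_normalizer_zl _ _))) ?_
      intro n hn'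
      have hn := hn'.2
      have hnR := (h.sE hn').1
      have h1 : cj n (zl (S : Subgroup G) (YS (S : Subgroup G) ⊔ centralizer (R : Set G))) =
          zl (cj n (S : Subgroup G)) (cj n (YS (S : Subgroup G) ⊔ centralizer (R : Set G))) :=
        (MinSimple.CosetFam.zl_conj n _ _).symm
      rw [mem_normalizer_iff_cj, h1, cj_eq_of_mem_normalizer hn,
        cj_eq_of_mem_normalizer (le_normalizer_sup (A := zpowers n) (by rw [zpowers_le]; exact nS_ys hn)
          (by rw [zpowers_le]; exact nc _ hnR) (mem_zpowers n))]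
    noR := fun A hA => gml hM h.ctx h.lX (h.kg h.lX) (hA.2.1.trans inf_le_left) (eab_iff.1 hA.1).2
    qB := by
      refine le_trans (le_inf ?_ ?_) (h.inf_le_QB h.BK)
      · exact inf_le_left.trans (inf_cent_le h.lK1.le (zc_le_zl _ _) (le_normalizer_zl _ _))
      · exact inf_le_right.trans (centralizer_le (h.BV.trans hVW))
    EQ := (inf_le_left.trans h.nB).trans ((nc _).trans (normalizer_le_normalizer_o2 _))
    nonloc := fun X hX h1 h2 => h.nl ((o2_isPGroup _).to_le hX) h1 h2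
    ne := fun e => h.zc_ne (le_bot_iff.1 (e ▸ zc_le_zl _ _)) }

/-- **(alpha) or (beta).** -/
theorem main :
    (∃ A ∈ AA (o2 (CZ (S : Subgroup G))), zl (S : Subgroup G) (centralizer ({e} : Set G)) ≤ A ∧
      A ≤ o2 (centralizer ({e} : Set G)) ∧ ∃ F : Subgroup G, F ≤ A ∧ F ≤ o2 (centralizer (R : Set G)) ∧
      ¬ F ≤ centralizer
        (hul (zl (S : Subgroup G) (YS S)) (centralizer (Z₀ : Set G)) : Set G) ∧
      (centralizer (hul (zl (S : Subgroup G) (YS S))
        (centralizer (Z₀ : Set G)) : Set G)).relIndex F =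
        (centralizer (F : Set G)).relIndex
          (hul (zl (S : Subgroup G) (YS S)) (centralizer (Z₀ : Set G)))) ∨
    (∃ X₁ : Subgroup G, IsElementaryAbelian 2 X₁ ∧ centralizer ({e} : Set G) ≤ normalizer (X₁ : Set G) ∧
      zl (S : Subgroup G) (YS S) ≤ X₁ ∧ zl (S : Subgroup G) (centralizer ({e} : Set G)) ≤ X₁ ∧
      X₁ ≤ o2 (CZ (S : Subgroup G)) ∧
      ∃ F ∈ AA (o2 (CZ (S : Subgroup G))), zl (S : Subgroup G) (YS S) ≤ F ∧
        F ≤ o2 (centralizer (Z₀ : Set G)) ∧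
        F ≤ o2 (centralizer (B : Set G)) ∧
        ¬ F ≤ centralizer (zl (S : Subgroup G) (centralizer ({e} : Set G)) : Set G) ∧
        ¬ F ≤ o2 (centralizer ({e} : Set G)) ∧
        F ⊓ centralizer (zl (S : Subgroup G) (centralizer ({e} : Set G)) : Set G) ≤ centralizer (X₁ : Set G) ∧
        (centralizer (X₁ : Set G)).relIndex F = (centralizer (F : Set G)).relIndex X₁) := by
  have D := h.twoP hM
  have hVW : zl (S : Subgroup G) (YS S) ≤
      hul (zl (S : Subgroup G) (YS S)) (centralizer (Z₀ : Set G)) := le_hul _ _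
  rcases D.main with ⟨A, hA, hAO, hU, hm, he⟩ | ⟨X₁, _, hel, hn, hW, hU, hO, _, _, F, hF, hFO, hWF, hQ, hm, hc, he⟩
  · refine Or.inl ⟨A, hAO, hU, hA.2.1.trans (inf_cent_le h.lK1.le (zc_le_zl _ _) (le_normalizer_zl _ _)), _,
      inf_le_left, ?_, hm, he⟩
    have h1 : A ⊓ centralizer (zl (S : Subgroup G) (YS (S : Subgroup G) ⊔ centralizer (R : Set G)) : Set G) ≤
        o2 (YS (S : Subgroup G) ⊔ centralizer (R : Set G)) :=
      (inf_le_inf_right _ hAO.2.1).trans (inf_cent_le h.lX.le (zc_le_zl _ _) (le_normalizer_zl _ _))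
    exact (le_inf h1 (inf_le_right.trans (centralizer_le (h.RV.trans (zl_mono le_sup_left))))).trans
      (h.inf_le_QR le_sup_right)
  · refine Or.inr ⟨X₁, hel, hn, hVW.trans hW, hU, hO, F, hFO, hVW.trans hWF, ?_, hQ, hm, ?_, hc, he⟩
    · exact hF.2.1.trans (inf_cent_le h.lK2.le ((zc_le_zl _ _).trans hVW) (le_normalizer_hul _ _))
    · intro hcon
      apply hm
      have hz1 := h.lK1.zl_le S h.ctx.char2
      intro x hx
      rw [mem_centralizer_iff]
      intro y hy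
      exact ((mem_zc.1 (hz1 hy)).2.1 _ (hcon hx)).symm

omit hM

/-! ### The minimal parabolics -/

/-- `P ∈ P*(S)`, `X = R` or `B`: `C_S(X) ≤ O₂(P)` or `P = C_P(X) S` -/
theorem altX {X P : Subgroup G} (nX : YS (S : Subgroup G) ≤ normalizer (X : Set G)) (hP : IsParS (S : Subgroup G) P) :
    (S : Subgroup G) ⊓ centralizer (X : Set G) ≤ o2 P ∨ (P ⊓ centralizer (X : Set G)) ⊔ (S : Subgroup G) = P := by
  have hPR : P ≤ normalizer (X : Set G) := (le_YS hP).trans nX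
  have hn : P ≤ normalizer ((P ⊓ centralizer (X : Set G) : Subgroup G) : Set G) := by
    intro p hp
    rw [mem_normalizer_iff_cj, cj_inf, cj_centralizer, cj_eq_of_mem_normalizer (le_normalizer hp),
      cj_eq_of_mem_normalizer (hPR hp)]
  rcases hP.toIsPar.sup_eq_or_inf_le S inf_le_left hn with h1 | h1
  · exact Or.inr h1
  · exact Or.inl ((le_inf inf_le_left (le_inf (inf_le_left.trans hP.le) inf_le_right)).trans h1)

/-- then `P` centralises `X ∩ Z` -/
theorem le_of_alt {X P : Subgroup G} (h1 : (P ⊓ centralizer (X : Set G)) ⊔ (S : Subgroup G) = P) :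
    P ≤ centralizer ((X ⊓ zc (S : Subgroup G) : Subgroup G) : Set G) := by
  rw [← h1]
  exact sup_le (inf_le_right.trans (centralizer_le inf_le_left))
    ((le_CZ S).trans (centralizer_le inf_le_right))

/-- `P ∈ P*(S)` with `C_S(X) ≤ O₂(P)` normalises `C_S(X)` -/
theorem nJ {X P : Subgroup G} (nX : YS (S : Subgroup G) ≤ normalizer (X : Set G)) (hP : IsParS (S : Subgroup G) P)
    (h1 : (S : Subgroup G) ⊓ centralizer (X : Set G) ≤ o2 P) :
    P ≤ normalizer (((S : Subgroup G) ⊓ centralizer (X : Set G) : Subgroup G) : Set G) := by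
  have e : (S : Subgroup G) ⊓ centralizer (X : Set G) = o2 P ⊓ centralizer (X : Set G) :=
    le_antisymm (le_inf h1 inf_le_right) (inf_le_inf_right _ (hP.isLoc.o2_le S))
  rw [e]
  intro p hp
  rw [mem_normalizer_iff_cj, cj_inf, cj_centralizer, cj_eq_of_mem_normalizer (le_normalizer_o2 P hp),
    cj_eq_of_mem_normalizer (nX (le_YS hP hp))]

/-- **side 1**: `F ≤ O₂(P)` for all `P ∈ P(S)` -/
theorem le_o2_one {F : Subgroup G} (hFO : F ≤ o2 (CZ (S : Subgroup G))) (hFR : F ≤ centralizer (R : Set G))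
    (hF2 : F ≤ o2 (centralizer (Z₀ : Set G))) {P : Subgroup G} (hP : IsPar (S : Subgroup G) P) : F ≤ o2 P := by
  rcases h.le_of_par hP with h1 | ⟨h1, _⟩
  · exact hFO.trans (o2_le_o2 S hP.le h1)
  · rcases h.altX h.nR h1 with h2 | h2
    · exact (le_inf (hFO.trans Loc.o2C_le) hFR).trans h2
    · exact hF2.trans (o2_le_o2 S hP.le ((h.le_of_alt h2).trans (centralizer_le h.Z0R)))

theorem nQR : (S : Subgroup G) ≤ normalizer (o2 (centralizer (R : Set G)) : Set G) :=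
  ((h.S_le_ys.trans h.nR).trans (nc _)).trans (normalizer_le_normalizer_o2 _)

theorem QR_le : o2 (centralizer (R : Set G)) ≤ (S : Subgroup G) :=
  le_of_le_normalizer S (o2_isPGroup _) h.nQR

/-- **side 2**: `F ≤ O₂(P)` for all `P ∈ P(S)` -/
theorem le_o2_two {F : Subgroup G} (hFO : F ≤ o2 (CZ (S : Subgroup G)))
    (hFQ : F ≤ o2 (centralizer (R : Set G))) {P : Subgroup G}
    (hP : IsPar (S : Subgroup G) P) : F ≤ o2 P := by
  rcases h.le_of_par hP with h1 | ⟨h1, _⟩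
  · exact hFO.trans (o2_le_o2 S hP.le h1)
  · rcases h.altX h.nR h1 with h2 | h2
    · exact (le_inf (hFO.trans Loc.o2C_le) (hFQ.trans (o2_le _))).trans h2
    · refine hFQ.trans (le_o2 (h.QR_le.trans hP.le) (o2_isPGroup _) ?_)
      rw [← h2]
      exact sup_le (inf_le_right.trans (le_normalizer_o2 _)) h.nQR

/-- `C_{V*}(S) ≤ Z` -/
theorem fixV {v : G} (hv : v ∈ zl (S : Subgroup G) (YS S)) (hs : ∀ s ∈ (S : Subgroup G), s * v = v * s) :
    v ∈ zc (S : Subgroup G) := mem_zc.2 ⟨h.vS hv, hs, h.vs v hv⟩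

/-- **`g ∈ N(R) ∩ N(B)` which centralises `z y` centralises `z` and `y`** -/
theorem sep {g z y : G} (hgR : g ∈ normalizer (R : Set G)) (hgB : g ∈ normalizer (B : Set G)) (hz : z ∈ R) (hy : y ∈ B)
    (hc : g * (z * y) = z * y * g) : g * z = z * g ∧ g * y = y * g := by
  have h1 : g * z * g⁻¹ ∈ R := (mem_normalizer_iff.1 hgR z).1 hz
  have h2 : g * y * g⁻¹ ∈ B := (mem_normalizer_iff.1 hgB y).1 hy
  have e1 : z⁻¹ * (g * z * g⁻¹) = y * (g * y * g⁻¹)⁻¹ := by
    have e2 : g * z * g⁻¹ * (g * y * g⁻¹) = z * y := by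
      calc g * z * g⁻¹ * (g * y * g⁻¹) = g * (z * y) * g⁻¹ := by group
        _ = z * y * g * g⁻¹ := by rw [hc]
        _ = z * y := by group
    calc z⁻¹ * (g * z * g⁻¹) = z⁻¹ * (g * z * g⁻¹ * (g * y * g⁻¹)) * (g * y * g⁻¹)⁻¹ := by group
      _ = z⁻¹ * (z * y) * (g * y * g⁻¹)⁻¹ := by rw [e2]
      _ = y * (g * y * g⁻¹)⁻¹ := by group
  have h3 : z⁻¹ * (g * z * g⁻¹) ∈ B ⊓ R :=
    ⟨by rw [e1]; exact B.mul_mem hy (B.inv_mem h2), R.mul_mem (R.inv_mem hz) h1⟩
  rw [h.spl, mem_bot] at h3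
  have h4 : g * z * g⁻¹ = z := (inv_mul_eq_one.1 h3).symm
  have h5 : g * y * g⁻¹ = y := by
    rw [h3] at e1
    exact (mul_inv_eq_one.1 e1.symm).symm
  exact ⟨mul_inv_eq_iff_eq_mul.1 h4, mul_inv_eq_iff_eq_mul.1 h5⟩

end FrV

end Cfsg.Agent.Omega.NOThreeL.RZ.TwoC

end

section


/-!
# [R-z] (helper133 #25243; helper616's fill-in (f1)): `V* ≤ O₂(C_G(Z))`

`Y = ⟨P*(S)⟩`, `R`, `B` with `V* = ⟨Z^Y⟩ ≤ B R`, `R = ⟨(R ∩ Z)^Y⟩`, `B ≤ ⟨Z^{C_Y(R)}⟩`, `R ∩ Z ≠ 1`, `1 ≠ e ∈ Z`,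
`Y = C_Y(R) C_Y(e)`.

* `conj_of_tr` : `e^Y = e^{C_Y(R)}`;
* `lowR` : `R ≤ O₂(C_G(Z))`;  `lowB` : `B ≤ O₂(C_G(Z))`;  **`low_star`** : `V* ≤ O₂(C_G(Z))`.
-/

set_option autoImplicit false
set_option linter.unusedSectionVars false

namespace Cfsg.Agent.Omega.NOThreeL.RZ.TwoC.LowP

open Subgroup Cfsg
open Cfsg.Agent.ZN (o2 zc zl jj)
open Cfsg.Agent.ZN.ChoiceBase hiding mem_zc
open Cfsg.Agent.Omega.ML.GMod (hul hul_le hul_le_of le_hul cj_le_hul le_normalizer_hul nc)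
open Cfsg.Agent.Omega.MinPar Cfsg.Agent.Omega.Frame Cfsg.Agent.Omega.FrameNOFF
open Cfsg.Agent.Omega.NOThreeL.Star (YS le_YS S_le_YS)
open Cfsg.Agent.MinSimple.VModule (zc_le_zl le_normalizer_zl zl_le zc_le mem_zc le_centralizer_zc
  le_normalizer_o2 o2_isPGroup o2_le le_o2)

universe u

variable {G : Type u} [Group G] [Finite G] {S : Sylow 2 G} {R B : Subgroup G} {e : G}

/-- `e^Y = e^{C_Y(R)}` -/
theorem conj_of_tr {Y : Subgroup G} (nR : Y ≤ normalizer (R : Set G))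
    (tr : Y ≤ (Y ⊓ centralizer (R : Set G)) ⊔ (Y ⊓ centralizer ({e} : Set G))) {y : G} (hy : y ∈ Y) :
    ∃ c ∈ Y, c ∈ centralizer (R : Set G) ∧ c * e * c⁻¹ = y * e * y⁻¹ := by
  have hn : Y ⊓ centralizer ({e} : Set G) ≤ normalizer ((Y ⊓ centralizer (R : Set G) : Subgroup G) : Set G) := by
    intro x hx
    rw [mem_normalizer_iff_cj, cj_inf, cj_centralizer, cj_eq_of_mem_normalizer (le_normalizer hx.1),
      cj_eq_of_mem_normalizer (nR hx.1)]
  have h1 : y ∈ (((Y ⊓ centralizer (R : Set G)) ⊔ (Y ⊓ centralizer ({e} : Set G)) : Subgroup G) : Set G) := tr hy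
  rw [coe_mul_of_right_le_normalizer_left _ _ hn, Set.mem_mul] at h1
  obtain ⟨c, hc, x, hx, rfl⟩ := h1
  refine ⟨c, hc.1, hc.2, ?_⟩
  have h2 : x * e = e * x := mem_centralizer_singleton_iff.1 hx.2
  calc c * e * c⁻¹ = c * (e * x) * x⁻¹ * c⁻¹ := by group
    _ = c * (x * e) * x⁻¹ * c⁻¹ := by rw [h2]
    _ = c * x * e * (c * x)⁻¹ := by group

/-- `R ≤ O₂(C_G(Z))` -/
theorem lowR (hc : IsCharacteristicTwoType G) (nR : YS (S : Subgroup G) ≤ normalizer (R : Set G))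
    (gR : R ≤ NoFF.Basic.V (R ⊓ zc (S : Subgroup G)) (YS (S : Subgroup G))) (eZ : e ∈ zc (S : Subgroup G)) (e1 : e ≠ 1)
    (tr : YS (S : Subgroup G) ≤ (YS (S : Subgroup G) ⊓ centralizer (R : Set G)) ⊔
      (YS (S : Subgroup G) ⊓ centralizer ({e} : Set G))) : R ≤ o2 (CZ (S : Subgroup G)) :=
  LowR.low_of hc nR gR eZ e1 fun _ hy => conj_of_tr nR tr hy

/-- `B ≤ O₂(C_G(Z))` -/
theorem lowB (hc : IsCharacteristicTwoType G) (R2 : IsPGroup 2 R) (ne : R ⊓ zc (S : Subgroup G) ≠ ⊥)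
    (gB : B ≤ hul (zc (S : Subgroup G)) (centralizer (R : Set G))) : B ≤ o2 (CZ (S : Subgroup G)) := by
  have hC : CZ (S : Subgroup G) ≤ centralizer ((R ⊓ zc (S : Subgroup G) : Subgroup G) : Set G) :=
    centralizer_le inf_le_right
  have hL : IsLoc (S : Subgroup G) (centralizer ((R ⊓ zc (S : Subgroup G) : Subgroup G) : Set G)) :=
    isLoc_of_le_normalizer S ((le_CZ S).trans hC) (R2.to_le inf_le_left) ne (centralizer_le_normalizer _)
  have h1 : hul (zc (S : Subgroup G)) (centralizer (R : Set G)) ≤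
      zl (S : Subgroup G) (centralizer ((R ⊓ zc (S : Subgroup G) : Subgroup G) : Set G)) :=
    hul_le_of (zc_le_zl _ _) ((centralizer_le inf_le_left).trans (le_normalizer_zl _ _))
  exact gB.trans (h1.trans (((hL.zl_le S hc).trans (zc_le _)).trans (o2_le_o2 S (le_CZ S) hC)))

/-- **`V* ≤ O₂(C_G(Z))`** -/
theorem low_star (hc : IsCharacteristicTwoType G) (nR : YS (S : Subgroup G) ≤ normalizer (R : Set G))
    (R2 : IsPGroup 2 R) (gR : R ≤ NoFF.Basic.V (R ⊓ zc (S : Subgroup G)) (YS (S : Subgroup G)))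
    (ne : R ⊓ zc (S : Subgroup G) ≠ ⊥) (eZ : e ∈ zc (S : Subgroup G)) (e1 : e ≠ 1)
    (tr : YS (S : Subgroup G) ≤ (YS (S : Subgroup G) ⊓ centralizer (R : Set G)) ⊔
      (YS (S : Subgroup G) ⊓ centralizer ({e} : Set G)))
    (gB : B ≤ hul (zc (S : Subgroup G)) (centralizer (R : Set G)))
    (hV : zl (S : Subgroup G) (YS S) ≤ B ⊔ R) : zl (S : Subgroup G) (YS S) ≤ o2 (CZ (S : Subgroup G)) :=
  hV.trans (sup_le (lowB hc R2 ne gB) (lowR hc nR gR eZ e1 tr))

end Cfsg.Agent.Omega.NOThreeL.RZ.TwoC.LowP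

end

end
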