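import Cfsg.Agent.Mrg.Omega.KL.StarR.Def
import Cfsg.Agent.Mrg.Omega.KL.StarQ.GrpD
import Cfsg.Agent.Mrg.Omega.NOThreeL.RZ.TwoC.AbP
import Cfsg.Agent.Mrg.Omega.KL.Star.ViaRed

-- merged: Cfsg.Agent.Mrg.Omega.KL.StarR.GrpR
section

/-!
# KL* with an object which is only normalised: the plug on the level of subgroups (bb #24309 (6), #25079, #25588)

* `PreR T A J Q Z Z' Y` : the input `InpR` of helper345 for an action which need not be faithful and an `A` which is
  exact modulo the kernel (`Z'` any group of `T`-fixed vectors such that `A` is faithful on `⟨Z'^C⟩` modulo the kernel);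
  **`PreR.inp`** : `InpR` for `C / C_C(M)` and an atom inside the image of `A`;
* `GInR C T A J Q M Z Z' Y` : the input on the level of subgroups of `G`: `C` normalises the elementary abelian `M`,
  `T` is a Sylow 2-subgroup of `C`;  **`GInR.inpR`**.

Side 1 of [R-z]: `GInR C_G(e) S F C_S(R) Q X₁ Z₀ Z B`, `hb = Or.inl`;  side 2: `GInR C_G(Z₀) S F ⊥ Q W₂ ⟨e⟩ Z R`,
`hb = Or.inr`.
-/

set_option autoImplicit false
set_option linter.unusedSectionVars false

namespace Cfsg.Agent.Omega.KL.StarR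

open Subgroup Cfsg Cfsg.Agent.Omega.MinPar
open Cfsg.Agent.ZN (o2)
open Cfsg.Agent.ClassTwoFusion.Quad Cfsg.Agent.Omega.ML.MinFrame
open Cfsg.Agent.MinSimple.MinParabolic (IsMinPar)
open Cfsg.Agent.Omega.NoFF.Basic (mem_conj conj_le_iff V_le Z_le_V)
open Cfsg.Agent.MinSimple.VModule (le_o2 o2_isPGroup o2_le le_normalizer_o2 o2_le_of_sylow oddGen oddGen_def)
open Cfsg.Agent.Omega.KL.Quo (norm_lift exists_minPar)
open Cfsg.Agent.Omega.KL.TwoS (exists_odd actX)
open scoped Pointwise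

universe u v

/-- the input `InpR` for `C` acting on `M`, with an `A` which is exact modulo the kernel -/
structure PreR {C : Type u} [Group C] {M : Type v} [Group M] [MulDistribMulAction C M] (T A J Q : Subgroup C)
    (Z Z' Y : Subgroup M) : Prop where
  sq : ∀ m : M, m * m = 1
  two : IsPGroup 2 T
  syl : ¬ 2 ∣ T.index
  tZ : ∀ z ∈ Z, ∀ t ∈ T, t • z = z
  tZ' : ∀ z ∈ Z', ∀ t ∈ T, t • z = z
  NZ : ∀ g ∈ normalizer (T : Set C), ∀ z ∈ Z, g • z ∈ Z
  NQ : normalizer (T : Set C) ≤ Q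
  QY : ∀ q ∈ Q, ∀ w ∈ Y, q • w ∈ Y
  QJ : Q ≤ normalizer (J : Set C)
  JT : J ≤ T
  par : ∀ P : Subgroup C, IsMinPar T P → (∀ z ∈ Z, ∀ p ∈ P, p • z = z) ∨
    (∀ g ∈ P, Odd (orderOf g) → ∀ w ∈ Y, g • w = w) ∨ (A ≤ o2 P ∧ J ≤ o2 P ∧ P ≤ Q)
  sep : ∀ g ∈ Q, Odd (orderOf g) → ∀ z ∈ Z, ∀ y ∈ Y, g • (z * y) = z * y → g • z = z
  hb : Bad J Q Y ∨ Cen T Y
  el : ∀ a ∈ A, a * a = 1
  AZ : A ≤ o2 (fxr C Z)
  AY : A ≤ o2 (fxr C Y ⊔ T)
  /-- `A` is faithful on `⟨Z'^C⟩` modulo the kernel -/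
  nk : ∀ a ∈ A, (∀ (c : C), ∀ z ∈ Z', a • c • z = c • z) → ∀ m : M, a • m = m
  mv : ∃ a ∈ A, ∃ m : M, a • m ≠ m
  no : ∀ B : Subgroup C, B ≤ A → (fxr C (⊤ : Subgroup M)).relIndex B ≤ (cv M (B : Set C)).index
  le : (cv M (A : Set C)).index ≤ (fxr C (⊤ : Subgroup M)).relIndex A
  KC : IsKGroup C

section pre

variable {C : Type u} [Group C] [Finite C] {M : Type v} [Group M] [Finite M] [MulDistribMulAction C M]
  {T A J Q : Subgroup C} {Z Z' Y : Subgroup M}

theorem PreR.inp (h : PreR T A J Q Z Z' Y) :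
    ∃ (H : Type u) (_ : Group H) (_ : Finite H) (_ : MulDistribMulAction H M) (T' A' J' Q' : Subgroup H),
      InpR T' A' J' Q' Z Y := by
  have htriv : ∀ k ∈ fxr C (⊤ : Subgroup M), ∀ m : M, k • m = m := fun k hk m => hk m (mem_top m)
  have hN : (fxr C (⊤ : Subgroup M)).Normal := fxr_normal fun _ _ _ => mem_top _
  set N := fxr C (⊤ : Subgroup M) with hNdef
  let _ : MulDistribMulAction (C ⧸ N) M := quoAct N htriv
  let π : C →* C ⧸ N := QuotientGroup.mk' N
  have hπ : Function.Surjective π := QuotientGroup.mk'_surjective N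
  have he : ∀ (g : C) (v : M), π g • v = g • v := fun _ _ => rfl
  have hker : ∀ k : C, (∀ v : M, k • v = v) → π k = 1 := fun k hk =>
    (QuotientGroup.eq_one_iff k).2 fun v _ => hk v
  have hker2 : ∀ k : C, π k = 1 → ∀ v : M, k • v = v := fun k hk v =>
    (QuotientGroup.eq_one_iff k).1 hk v (mem_top v)
  -- stabilisers
  have hfx : ∀ Y' : Subgroup M, (fxr C Y').map π = fxr (C ⧸ N) Y' := by
    intro Y'
    ext g
    constructor
    · rintro ⟨c, hc, rfl⟩
      exact hc
    · intro hg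
      obtain ⟨c, rfl⟩ := hπ g
      exact ⟨c, hg, rfl⟩
  have ho2 : ∀ S : Subgroup C, A ≤ o2 S → A.map π ≤ o2 (S.map π) := by
    intro S hS
    exact (map_mono hS).trans (KL.GenTool.o2_map_le π S)
  have hy : A.map π ≤ o2 (fxr (C ⧸ N) Y ⊔ T.map π) := by
    rw [← hfx, ← Subgroup.map_sup]
    exact ho2 _ h.AY
  have hz' : A.map π ≤ o2 (fxr (C ⧸ N) Z) := by
    rw [← hfx]
    exact ho2 _ h.AZ
  have hsyl : ¬ 2 ∣ (T.map π).index := fun h2 => h.syl (h2.trans (index_map_dvd T hπ))
  have hKH : IsKGroup (C ⧸ N) := ML.Final.sec_KG.quo C h.KC N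
  have hel : ∀ a ∈ A.map π, a * a = 1 := by
    rintro _ ⟨a, ha, rfl⟩
    rw [← map_mul, h.el a ha, map_one]
  -- `A.map π` is faithful on `⟨Z'^C⟩`
  have hfa : ∀ g ∈ A.map π, (∀ (c : C ⧸ N), ∀ z ∈ Z', g • c • z = c • z) → g = 1 := by
    rintro _ ⟨a, ha, rfl⟩ hg
    exact hker a (h.nk a ha fun c z hz => hg (π c) z hz)
  -- (NO)
  have hcv : ∀ B : Subgroup C, cv M (B.map π : Set (C ⧸ N)) = cv M (B : Set C) := by
    intro B
    ext v
    constructor
    · exact fun hv a ha => hv _ ⟨a, ha, rfl⟩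
    · rintro hv _ ⟨a, ha, rfl⟩
      exact hv a ha
  have hcard : ∀ B : Subgroup C, Nat.card (B.map π) = N.relIndex B := by
    intro B
    rw [← relIndex_bot_left, ← relIndex_comap, MonoidHom.comap_bot, QuotientGroup.ker_mk']
  have hno : ∀ B : Subgroup (C ⧸ N), B ≤ A.map π → Nat.card B ≤ (cv M (B : Set (C ⧸ N))).index := by
    intro B hB
    have e : (A ⊓ B.comap π).map π = B := by
      apply le_antisymm
      · rintro _ ⟨a, ha, rfl⟩
        exact ha.2
      · intro g hg
        obtain ⟨a, ha, rfl⟩ := hB hg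
        exact ⟨a, ⟨ha, hg⟩, rfl⟩
    rw [← e, hcv, hcard]
    exact h.no _ inf_le_left
  have hex : (cv M (A.map π : Set (C ⧸ N))).index = Nat.card (A.map π) := by
    refine le_antisymm ?_ (hno _ le_rfl)
    rw [hcv, hcard]
    exact h.le
  have hA1 : A.map π ≠ ⊥ := by
    intro h1
    obtain ⟨a, ha, m, hm⟩ := h.mv
    apply hm
    refine hker2 a ?_ m
    rw [← mem_bot, ← h1]
    exact ⟨a, ha, rfl⟩
  -- an atom
  obtain ⟨B, ⟨hBA, hB1, hBe⟩, hmin⟩ : ∃ B : Subgroup (C ⧸ N), (B ≤ A.map π ∧ B ≠ ⊥ ∧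
      (cv M (B : Set (C ⧸ N))).index = Nat.card B) ∧ ∀ B' : Subgroup (C ⧸ N), (B' ≤ A.map π ∧ B' ≠ ⊥ ∧
      (cv M (B' : Set (C ⧸ N))).index = Nat.card B') → B' ≤ B → B' = B := by
    obtain ⟨B, hB⟩ := (Set.toFinite {B : Subgroup (C ⧸ N) | B ≤ A.map π ∧ B ≠ ⊥ ∧
      (cv M (B : Set (C ⧸ N))).index = Nat.card B}).exists_minimal ⟨A.map π, le_rfl, hA1, hex⟩
    exact ⟨B, hB.prop, fun B' hB' hle => le_antisymm hle (hB.le_of_le hB' hle)⟩
  have htZ' : ∀ z ∈ Z', ∀ t ∈ T.map π, t • z = z := by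
    rintro z hz _ ⟨t, ht, rfl⟩
    exact h.tZ' z hz t ht
  have hnT : ∀ g ∈ normalizer ((T.map π : Subgroup (C ⧸ N)) : Set (C ⧸ N)),
      ∃ c ∈ normalizer (T : Set C), π c = g := by
    intro g hg
    obtain ⟨t, ht, n, hn, rfl⟩ := norm_lift π hπ h.two h.syl hg
    exact ⟨t * n, mul_mem (le_normalizer ht) hn, rfl⟩
  refine ⟨C ⧸ N, inferInstance, inferInstance, inferInstance, T.map π, B, J.map π, Q.map π, ?_⟩
  exact
    { sq := h.sq
      two := h.two.map π
      syl := hsyl
      tZ := by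
        rintro z hz _ ⟨t, ht, rfl⟩
        exact h.tZ z hz t ht
      NZ := by
        intro g hg z hz
        obtain ⟨n, hn, rfl⟩ := hnT g hg
        exact h.NZ n hn z hz
      NQ := by
        intro g hg
        obtain ⟨n, hn, rfl⟩ := hnT g hg
        exact ⟨n, h.NQ hn, rfl⟩
      QY := by
        rintro _ ⟨q, hq, rfl⟩ w hw
        exact h.QY q hq w hw
      QJ := (map_mono h.QJ).trans (le_normalizer_map π)
      JT := map_mono h.JT
      par := by
        intro P hP
        obtain ⟨R, hR, rfl⟩ := exists_minPar π hπ hP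
        rcases h.par R hR with h1 | h1 | ⟨h1, h2, h3⟩
        · left
          rintro z hz _ ⟨r, hr, rfl⟩
          exact h1 z hz r hr
        · right
          left
          intro g hg hog w hw
          obtain ⟨c, hc, hco, rfl⟩ := exists_odd π hg hog
          exact h1 c hc hco w hw
        · right
          right
          exact ⟨hBA.trans ((map_mono h1).trans (KL.GenTool.o2_map_le π R)),
            (map_mono h2).trans (KL.GenTool.o2_map_le π R), map_mono h3⟩
      sep := by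
        intro g hg hog z hz y hy hgz
        obtain ⟨c, hc, hco, rfl⟩ := exists_odd π hg hog
        exact h.sep c hc hco z hz y hy hgz
      hb := by
        rcases h.hb with h1 | h1
        · left
          intro d hd hdo hcomm w hw
          obtain ⟨c, hc, hco, rfl⟩ := exists_odd π hd hdo
          exact h1 c hc hco (fun j hj w hw => hcomm (π j) ⟨j, hj, rfl⟩ w hw) w hw
        · right
          intro w hw tw g
          obtain ⟨c, rfl⟩ := hπ g
          exact h1 w hw (fun t ht => tw (π t) ⟨t, ht, rfl⟩) c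
      el := fun a ha => hel a (hBA ha)
      exact := hBe
      atom := by
        intro B' hB' hB1' hne
        refine lt_of_le_of_ne (hno B' (hB'.trans hBA)) fun h1 => hne ?_
        exact hmin B' ⟨hB'.trans hBA, hB1', h1.symm⟩ hB'
      nA := by
        -- `O₂(H)` centralises `⟨Z'^H⟩`
        intro hle
        apply hB1
        rw [eq_bot_iff]
        intro b hb
        rw [mem_bot]
        refine hfa b (hBA hb) fun c z hz => ?_
        have h1 : c⁻¹ * b * c ∈ o2 (⊤ : Subgroup (C ⧸ N)) := by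
          have := (mem_normalizer_iff.1 (le_normalizer_o2 (⊤ : Subgroup (C ⧸ N)) (mem_top c⁻¹)) b).1 (hle hb)
          rwa [inv_inv] at this
        have h2 : o2 (⊤ : Subgroup (C ⧸ N)) ≤ T.map π :=
          o2_le_of_sylow (h.two.map π) (by rwa [relIndex_top_right])
        have h3 := htZ' z hz _ (h2 h1)
        rw [mul_smul, mul_smul, inv_smul_eq_iff] at h3
        exact h3
      AZ := hBA.trans hz'
      AY := hBA.trans hy
      KH := hKH }

end pre

/-! ### Subgroups -/

/-- **the input on the level of subgroups of `G`** -/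
structure GInR {G : Type u} [Group G] (C T A J Q M Z Z' Y : Subgroup G) : Prop where
  CM : C ≤ normalizer (M : Set G)
  sqM : ∀ m ∈ M, m ^ 2 = 1
  TC : T ≤ C
  two : IsPGroup 2 T
  syl : ¬ 2 ∣ T.relIndex C
  ZM : Z ≤ M
  ZM' : Z' ≤ M
  YM : Y ≤ M
  TZ : T ≤ centralizer (Z : Set G)
  TZ' : T ≤ centralizer (Z' : Set G)
  NZ : C ⊓ normalizer (T : Set G) ≤ normalizer (Z : Set G)
  NQ : C ⊓ normalizer (T : Set G) ≤ Q
  QY : C ⊓ Q ≤ normalizer (Y : Set G)
  QJ : C ⊓ Q ≤ normalizer (J : Set G)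
  JT : J ≤ T
  AT : A ≤ T
  par : ∀ P : Subgroup G, IsMinPar T P → P ≤ C → P ≤ centralizer (Z : Set G) ∨
    (∀ g ∈ P, Odd (orderOf g) → g ∈ centralizer (Y : Set G)) ∨ (A ≤ o2 P ∧ J ≤ o2 P ∧ P ≤ Q)
  /-- e.g. `Q` normalises `Y` and `R ≥ Z`, `Y ∩ R = 1` -/
  sep : ∀ g ∈ C, g ∈ Q → Odd (orderOf g) → ∀ z ∈ Z, ∀ y ∈ Y, g * (z * y) = z * y * g → g * z = z * g
  hb : (∀ d ∈ C, d ∈ Q → Odd (orderOf d) →
      (∀ j ∈ J, ∀ w ∈ Y, (j * d * j⁻¹ * d⁻¹) * (d * w * d⁻¹ * w⁻¹) = (d * w * d⁻¹ * w⁻¹) * (j * d * j⁻¹ * d⁻¹)) →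
      d ∈ centralizer (Y : Set G)) ∨
    Y ⊓ centralizer (T : Set G) ≤ centralizer (C : Set G)
  sqA : ∀ a ∈ A, a ^ 2 = 1
  AZ : A ≤ o2 (C ⊓ centralizer (Z : Set G))
  AY : A ≤ o2 (C ⊓ centralizer (Y : Set G) ⊔ T)
  nk : A ⊓ centralizer (NoFF.Basic.V Z' C : Set G) ≤ centralizer (M : Set G)
  mv : ¬ A ≤ centralizer (M : Set G)
  no : ∀ B : Subgroup G, B ≤ A →
    (centralizer (M : Set G)).relIndex B ≤ (centralizer (B : Set G)).relIndex M
  le : (centralizer (A : Set G)).relIndex M ≤ (centralizer (M : Set G)).relIndex A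
  K : IsKGroup C

namespace GInR

variable {G : Type u} [Group G] {C T A J Q M Z Z' Y : Subgroup G}

theorem preR [Finite G] (h : GInR C T A J Q M Z Z' Y) :
    letI := actX h.CM
    PreR (T.subgroupOf C) (A.subgroupOf C) (J.subgroupOf C) (Q.subgroupOf C) (Z.subgroupOf M) (Z'.subgroupOf M)
      (Y.subgroupOf M) := by
  let := actX h.CM
  change PreR (T.subgroupOf C) (A.subgroupOf C) (J.subgroupOf C) (Q.subgroupOf C) (Z.subgroupOf M) (Z'.subgroupOf M)
    (Y.subgroupOf M)
  have hJC : J ≤ C := h.JT.trans h.TC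
  have hAC : A ≤ C := h.AT.trans h.TC
  have hsm : ∀ (c : C) (m : M), ((c • m : M) : G) = c * m * (c : G)⁻¹ := fun _ _ => rfl
  have hfix : ∀ (c : C) (m : M), c • m = m ↔ (m : G) * c = c * m := by
    intro c m
    rw [Subtype.ext_iff, hsm, mul_inv_eq_iff_eq_mul, eq_comm]
  have hfxr : ∀ Y : Subgroup G, Y ≤ M → fxr C (Y.subgroupOf M) = (centralizer (Y : Set G)).subgroupOf C := by
    intro Y hY
    ext c
    rw [mem_subgroupOf, mem_centralizer_iff]
    constructor
    · intro h y hy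
      exact (hfix c ⟨y, hY hy⟩).1 (h _ (mem_subgroupOf.2 hy))
    · intro h y hy
      exact (hfix c y).2 (h _ (mem_subgroupOf.1 hy))
  have hfxt : fxr C (⊤ : Subgroup M) = (centralizer (M : Set G)).subgroupOf C := by
    rw [← hfxr M le_rfl, subgroupOf_self]
  have hcv : ∀ B : Subgroup G, B ≤ C → cv M (B.subgroupOf C : Set C) = (centralizer (B : Set G)).subgroupOf M := by
    intro B hB
    ext m
    rw [mem_subgroupOf, mem_centralizer_iff]
    constructor
    · intro h b hb
      exact ((hfix ⟨b, hB hb⟩ m).1 (h _ (mem_subgroupOf.2 hb))).symm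
    · intro h b hb
      exact (hfix b m).2 (h b (mem_subgroupOf.1 hb)).symm
  have hNT : ∀ g : C, g ∈ normalizer ((T.subgroupOf C : Subgroup C) : Set C) → (g : G) ∈ normalizer (T : Set G) := by
    intro g hg
    rw [mem_normalizer_iff] at hg ⊢
    intro t
    constructor
    · intro ht
      exact (hg ⟨t, h.TC ht⟩).1 ht
    · intro ht
      have h1 : t ∈ C := by
        have h2 := C.mul_mem (C.mul_mem (C.inv_mem g.2) (h.TC ht)) g.2
        have e : (g : G)⁻¹ * (g * t * (g : G)⁻¹) * g = t := by group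
        rwa [e] at h2
      exact (hg ⟨t, h1⟩).2 ht
  have hnsub : ∀ {X : Subgroup G} {c : C}, (c : G) ∈ normalizer (X : Set G) →
      c ∈ normalizer ((X.subgroupOf C : Subgroup C) : Set C) := by
    intro X c hc
    rw [mem_normalizer_iff]
    intro x
    exact mem_normalizer_iff.1 hc (x : G)
  have hnsub' : ∀ {X : Subgroup G} {c : C}, X ≤ C → c ∈ normalizer ((X.subgroupOf C : Subgroup C) : Set C) →
      (c : G) ∈ normalizer (X : Set G) := by
    intro X c hX hc
    rw [mem_normalizer_iff] at hc ⊢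
    intro t
    constructor
    · intro ht
      exact (hc ⟨t, hX ht⟩).1 ht
    · intro ht
      have h1 : t ∈ C := by
        have h2 := C.mul_mem (C.mul_mem (C.inv_mem c.2) (hX ht)) c.2
        have e : (c : G)⁻¹ * (c * t * (c : G)⁻¹) * c = t := by group
        rwa [e] at h2
      exact (hc ⟨t, h1⟩).2 ht
  exact
    { sq := by
        intro m
        apply Subtype.ext
        have h1 := h.sqM m m.2
        rw [pow_two] at h1
        exact h1
      two := h.two.comap_of_injective C.subtype C.subtype_injective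
      syl := h.syl
      tZ := by
        intro z hz t ht
        rw [hfix]
        exact mem_centralizer_iff.1 (h.TZ (mem_subgroupOf.1 ht)) z (mem_subgroupOf.1 hz)
      tZ' := by
        intro z hz t ht
        rw [hfix]
        exact mem_centralizer_iff.1 (h.TZ' (mem_subgroupOf.1 ht)) z (mem_subgroupOf.1 hz)
      NZ := by
        intro g hg w hw
        refine mem_subgroupOf.2 ?_
        rw [hsm]
        exact (mem_normalizer_iff.1 (h.NZ ⟨g.2, hNT g hg⟩) _).1 (mem_subgroupOf.1 hw)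
      NQ := fun g hg => mem_subgroupOf.2 (h.NQ ⟨g.2, hNT g hg⟩)
      QY := by
        intro g hg w hw
        refine mem_subgroupOf.2 ?_
        rw [hsm]
        exact (mem_normalizer_iff.1 (h.QY ⟨g.2, mem_subgroupOf.1 hg⟩) _).1 (mem_subgroupOf.1 hw)
      QJ := fun g hg => hnsub (h.QJ ⟨g.2, mem_subgroupOf.1 hg⟩)
      JT := fun j hj => mem_subgroupOf.2 (h.JT (mem_subgroupOf.1 hj))
      par := by
        intro P hP
        have hR := Plug.minPar_map h.TC hP
        have hPe : (P.map C.subtype).subgroupOf C = P := comap_map_eq_self_of_injective C.subtype_injective P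
        rcases h.par _ hR (map_subtype_le P) with h1 | h1 | ⟨h1, h2, h3⟩
        · left
          intro z hz p hp
          rw [hfix]
          exact mem_centralizer_iff.1 (h1 (mem_map_of_mem C.subtype hp)) z (mem_subgroupOf.1 hz)
        · right
          left
          intro g hg hog w hw
          rw [hfix]
          exact mem_centralizer_iff.1 (h1 g (mem_map_of_mem C.subtype hg) (by rwa [orderOf_coe])) w
            (mem_subgroupOf.1 hw)
        · right
          right
          refine ⟨?_, ?_, fun p hp => mem_subgroupOf.2 (h3 (mem_map_of_mem C.subtype hp))⟩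
          · refine Plug.sub_o2 (S := P.map C.subtype) (fun c => ?_) h1
            rw [← mem_subgroupOf, hPe]
          · refine Plug.sub_o2 (S := P.map C.subtype) (fun c => ?_) h2
            rw [← mem_subgroupOf, hPe]
      sep := by
        intro g hg hog z hz y hy hgz
        rw [hfix] at hgz ⊢
        exact (h.sep g g.2 (mem_subgroupOf.1 hg) (by rwa [orderOf_coe]) z
          (mem_subgroupOf.1 hz) y (mem_subgroupOf.1 hy) hgz.symm).symm
      hb := by
        rcases h.hb with h1 | h1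
        · left
          intro d hd hdo hcomm w hw
          rw [hfix]
          refine mem_centralizer_iff.1 (h1 d d.2 (mem_subgroupOf.1 hd) (by rwa [orderOf_coe]) ?_) w
            (mem_subgroupOf.1 hw)
          intro j hj y hy
          have h1 := hcomm ⟨j, hJC hj⟩ (mem_subgroupOf.2 hj) ⟨y, h.YM hy⟩ (mem_subgroupOf.2 hy)
          rw [hfix] at h1
          exact h1.symm
        · right
          intro w hw tw g
          rw [hfix]
          have h2 : (w : G) ∈ centralizer (T : Set G) := by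
            rw [mem_centralizer_iff]
            intro t ht
            exact ((hfix ⟨t, h.TC ht⟩ w).1 (tw _ (mem_subgroupOf.2 ht))).symm
          exact (mem_centralizer_iff.1 (h1 ⟨mem_subgroupOf.1 hw, h2⟩) g g.2).symm
      el := by
        intro a ha
        apply Subtype.ext
        have h1 := h.sqA a (mem_subgroupOf.1 ha)
        rw [pow_two] at h1
        exact h1
      AZ := by
        refine Plug.sub_o2 (S := C ⊓ centralizer (Z : Set G)) (fun c => ?_) h.AZ
        rw [hfxr Z h.ZM, mem_subgroupOf]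
        exact ⟨fun hc => ⟨c.2, hc⟩, fun hc => hc.2⟩
      AY := by
        refine Plug.sub_o2 (S := C ⊓ centralizer (Y : Set G) ⊔ T) (fun c => ?_) h.AY
        have e : (C ⊓ centralizer (Y : Set G)).subgroupOf C = (centralizer (Y : Set G)).subgroupOf C := by
          rw [inf_subgroupOf_left]
        rw [hfxr Y h.YM, ← e, ← subgroupOf_sup inf_le_left h.TC, mem_subgroupOf]
      nk := by
        intro a ha hc m
        rw [hfix]
        have h1 : NoFF.Basic.V Z' C ≤ centralizer ({(a : G)} : Set G) := by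
          refine V_le fun c hcC => ?_
          intro x hx
          rw [mem_conj] at hx
          have h2 := hc ⟨c, hcC⟩ ⟨_, h.ZM' hx⟩ (mem_subgroupOf.2 hx)
          have h3 : ((⟨c, hcC⟩ : C) • (⟨_, h.ZM' hx⟩ : M) : M) = (⟨x, by
              have := ((⟨c, hcC⟩ : C) • (⟨_, h.ZM' hx⟩ : M) : M).2
              have e : c * (c⁻¹ * x * c) * c⁻¹ = x := by group
              rw [hsm] at this
              change c * (c⁻¹ * x * c) * c⁻¹ ∈ M at this
              rwa [e] at this⟩ : M) := by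
            apply Subtype.ext
            change c * (c⁻¹ * x * c) * c⁻¹ = x
            group
          rw [h3, hfix] at h2
          rw [mem_centralizer_singleton_iff]
          exact h2
        have h2 : (a : G) ∈ centralizer (NoFF.Basic.V Z' C : Set G) := by
          rw [mem_centralizer_iff]
          intro v hv
          exact mem_centralizer_singleton_iff.1 (h1 hv)
        exact mem_centralizer_iff.1 (h.nk ⟨mem_subgroupOf.1 ha, h2⟩) m m.2
      mv := by
        by_contra hc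
        push Not at hc
        apply h.mv
        intro a ha
        refine mem_centralizer_iff.2 fun m hm => ?_
        exact (hfix ⟨a, hAC ha⟩ ⟨m, hm⟩).1 (hc _ (mem_subgroupOf.2 ha) _)
      no := by
        intro B hB
        set B' : Subgroup G := B.map C.subtype with hB'
        have hBB : B'.subgroupOf C = B := comap_map_eq_self_of_injective C.subtype_injective B
        have hB'A : B' ≤ A := by
          rintro _ ⟨b, hb, rfl⟩
          exact mem_subgroupOf.1 (hB hb)
        have h1 := h.no B' hB'A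
        rw [hfxt, ← hBB, hcv B' (hB'A.trans hAC), relIndex_subgroupOf (hB'A.trans hAC)]
        exact h1
      le := by
        rw [hfxt, hcv A hAC, relIndex_subgroupOf hAC]
        exact h.le
      KC := h.K }

theorem inpR [Finite G] (h : GInR C T A J Q M Z Z' Y) :
    ∃ (X N : Type u) (_ : Group X) (_ : Finite X) (_ : Group N) (_ : Finite N) (_ : MulDistribMulAction X N)
      (T' A' J' Q' : Subgroup X) (Z₁ Y' : Subgroup N), InpR T' A' J' Q' Z₁ Y' := by
  let := actX h.CM
  obtain ⟨X, _, _, _, T', A', J', Q', h1⟩ := h.preR.inp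
  exact ⟨X, M, inferInstance, inferInstance, inferInstance, inferInstance, inferInstance, T', A', J', Q', _, _, h1⟩

end GInR

end Cfsg.Agent.Omega.KL.StarR

end

-- merged: Cfsg.Agent.Mrg.Omega.NOThreeL.RZ.TwoC.EndV
section

section


/-!
# [K], [H], [I3], [R-z]: both sides of the frame `FrV` are impossible (bb #25243 (5), #25865, #25809, #26172)

* `QQ S R B J`, `BadG Q J Y`;
* **`FrV.alpha`** : side 2, `GInR C_G(Z₀) S F C_S(B) Q W₂ (B ∩ Z) Z R`;
* **`FrV.beta`** : side 1, `GInR C_G(e) S F C_S(R) Q X₁ (R ∩ Z) Z B`;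
* **`FrV.false_of`**;  `FrE.toV`, **`FrE.dead`** : helper652's frame `FrE` is impossible.
-/

set_option autoImplicit false
set_option linter.unusedSectionVars false

namespace Cfsg.Agent.Omega.NOThreeL.RZ.TwoC

open Subgroup Cfsg
open Cfsg.Agent.ZN (o2 zc zl jj)
open Cfsg.Agent.ZN.ChoiceBase hiding mem_zc
open Cfsg.Agent.Omega.ML.Final (MLK)
open Cfsg.Agent.Omega.ML.GMod (hul hul_le hul_le_of le_hul cj_le_hul le_normalizer_hul nc ri_mono
  normalizer_le_normalizer_o2)
open Cfsg.Agent.Omega.MinPar Cfsg.Agent.Omega.Frame Cfsg.Agent.Omega.FrameNOFF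
open Cfsg.Agent.Omega.NO3b.Bang (le_normalizer_sup cent_symm)
open Cfsg.Agent.Omega.NOThreeL.Star (YS le_YS S_le_YS zl_mono)
open Cfsg.Agent.Omega.NO3S.EThree.ExactA (eab_iff eab_mono)
open Cfsg.Agent.Omega.NoFF.Basic (comm_symm V V_le Z_le_V mem_conj)
open Cfsg.Agent.Omega.GI (relIndex_congr relIndex_sup_of_comm)
open Cfsg.Agent.MinSimple.VModule (zc_le_zl le_normalizer_zl zl_le zc_le zc_sq zc_comm mem_zc le_centralizer_zc
  le_normalizer_o2 o2_isPGroup o2_le le_o2 normalizer_le_normalizer_zc)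
open Cfsg.Agent.MinSimple.Basic (not_dvd_relIndex)
open Cfsg.Agent.MinSimple.MinParabolic (IsMinPar)
open Cfsg.Agent.Omega.NOThreeL.RZ.TwoC.Loc (gml o2C_le inf_cent_le norm_inf)
open Cfsg.Agent.Omega.NOThreeL.RZ.TwoC.SideP (NoA TwoP exch_inf)
open Cfsg.Agent.Omega.NO3b.EndX (RedP)
open Cfsg.Agent.Omega.KL.StarR (GInR)
open scoped Pointwise

universe u

variable {G : Type u} [Group G]

/-- the elements of `⟨Y, N(S)⟩` which normalise `R`, `B` and `J` -/
def QQ (S R B J : Subgroup G) : Subgroup G :=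
  (YS S ⊔ normalizer (S : Set G)) ⊓ normalizer (R : Set G) ⊓ normalizer (B : Set G) ⊓ normalizer (J : Set G)

/-- an element `d` of odd order of `Q` with `[[Y, d], [J, d]] = 1` centralises `Y` -/
def BadG (Q J Y : Subgroup G) : Prop :=
  ∀ d ∈ Q, Odd (orderOf d) →
    (∀ j ∈ J, ∀ w ∈ Y, (j * d * j⁻¹ * d⁻¹) * (d * w * d⁻¹ * w⁻¹) = (d * w * d⁻¹ * w⁻¹) * (j * d * j⁻¹ * d⁻¹)) →
    d ∈ centralizer (Y : Set G)

/-- `⟨Z^L⟩` in the two notations -/
theorem v_eq (S L : Subgroup G) : V (zc S) L = zl S L := by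
  apply le_antisymm
  · refine V_le fun g hg => ?_
    have h1 : cj g (zl S L) = zl S L := cj_eq_of_mem_normalizer (le_normalizer_zl S L hg)
    calc MulAut.conj g • zc S = cj g (zc S) := rfl
      _ ≤ cj g (zl S L) := cj_mono g (zc_le_zl S L)
      _ = _ := h1
  · exact iSup_le fun g => Z_le_V g.2

namespace FrV

variable [Finite G] {S : Sylow 2 G} {R B Z₀ : Subgroup G} {e : G} (h : FrV S R B Z₀ e)
include h

/-- `C ∩ Q` for the two sides -/
theorem nS_QQ {X J K : Subgroup G} (hX : K ⊓ normalizer ((S : Subgroup G) : Set G) ≤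
    normalizer (R : Set G) ⊓ normalizer (B : Set G)) (hJ : J = (S : Subgroup G) ⊓ centralizer (X : Set G))
    (hN : normalizer (R : Set G) ⊓ normalizer (B : Set G) ≤ normalizer (X : Set G)) :
    K ⊓ normalizer ((S : Subgroup G) : Set G) ≤ QQ (S : Subgroup G) R B J := by
  intro g hg
  have h1 := hX hg
  have h2 : g ∈ normalizer (((S : Subgroup G) ⊓ centralizer (X : Set G) : Subgroup G) : Set G) := by
    rw [mem_normalizer_iff_cj, cj_inf, cj_centralizer, cj_eq_of_mem_normalizer hg.2,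
      cj_eq_of_mem_normalizer (hN h1)]
  exact ⟨⟨⟨le_sup_right (a := YS (S : Subgroup G)) hg.2, h1.1⟩, h1.2⟩, hJ ▸ h2⟩

theorem par_QQ {X P : Subgroup G} (nX : YS (S : Subgroup G) ≤ normalizer (X : Set G))
    (hP : IsParS (S : Subgroup G) P) (h1 : (S : Subgroup G) ⊓ centralizer (X : Set G) ≤ o2 P) :
    P ≤ QQ (S : Subgroup G) R B ((S : Subgroup G) ⊓ centralizer (X : Set G)) :=
  le_inf (le_inf (le_inf ((le_YS hP).trans le_sup_left) ((le_YS hP).trans h.nR)) ((le_YS hP).trans h.nB))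
    (h.nJ nX hP h1)

/-- `O₂(C_G(X)) ≤ O₂(C_G(X) S)` -/
theorem o2_sup {X K : Subgroup G} (nX : YS (S : Subgroup G) ≤ normalizer (X : Set G))
    (hK : centralizer (X : Set G) ≤ K) :
    o2 (centralizer (X : Set G)) ≤ o2 (K ⊓ centralizer (X : Set G) ⊔ (S : Subgroup G)) := by
  rw [inf_eq_right.2 hK]
  refine le_o2 ((o2_le _).trans le_sup_left) (o2_isPGroup _) (sup_le (le_normalizer_o2 _) ?_)
  exact ((h.S_le_ys.trans nX).trans (nc _)).trans (normalizer_le_normalizer_o2 _)

variable (hM : MLK.{u, u}) (hR : RedP.{u, u}) (hE : ML.Ex.Two.Ext.{u, u})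
include hM hR hE

/-- **side 2** -/
theorem alpha
    (b2 : R ⊓ zc (S : Subgroup G) ≤ Z₀ ∨
      BadG (centralizer (Z₀ : Set G) ⊓ QQ (S : Subgroup G) R B ((S : Subgroup G) ⊓ centralizer (B : Set G)))
        ((S : Subgroup G) ⊓ centralizer (B : Set G)) R)
    {A F : Subgroup G} (hA : A ∈ AA (o2 (CZ (S : Subgroup G)))) (hAK : A ≤ o2 (centralizer ({e} : Set G)))
    (hFA : F ≤ A) (hFR : F ≤ o2 (centralizer (R : Set G)))
    (hm : ¬ F ≤ centralizer (hul (zl (S : Subgroup G) (YS S)) (centralizer (Z₀ : Set G)) : Set G))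
    (he : (centralizer (hul (zl (S : Subgroup G) (YS S)) (centralizer (Z₀ : Set G)) : Set G)).relIndex F =
      (centralizer (F : Set G)).relIndex (hul (zl (S : Subgroup G) (YS S)) (centralizer (Z₀ : Set G)))) : False := by
  set W : Subgroup G := hul (zl (S : Subgroup G) (YS S)) (centralizer (Z₀ : Set G)) with hW
  obtain ⟨w0, w1, w2, -⟩ := h.W2 hM
  rw [← hW] at w0 w1 w2
  have hFO : F ≤ o2 (CZ (S : Subgroup G)) := hFA.trans hA.2.1
  have hFS : F ≤ (S : Subgroup G) := hFO.trans o2C_le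
  have hSK : (S : Subgroup G) ≤ centralizer (Z₀ : Set G) := (le_CZ S).trans h.C2
  have hZB : (S : Subgroup G) ≤ centralizer ((B ⊓ zc (S : Subgroup G) : Subgroup G) : Set G) :=
    (le_CZ S).trans (centralizer_le inf_le_right)
  have hVW : zl (S : Subgroup G) (YS S) ≤ W := le_hul _ _
  have hU := h.lK2.zl_le S h.ctx.char2
  have hUO : zl (S : Subgroup G) (centralizer (Z₀ : Set G)) ≤ o2 (CZ (S : Subgroup G)) :=
    (hU.trans (zc_le _)).trans (o2_le_o2 S (le_CZ S) h.C2)
  have hUel : IsElementaryAbelian 2 (zl (S : Subgroup G) (centralizer (Z₀ : Set G))) :=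
    eab_iff.2 ⟨fun x hx => mem_centralizer_iff.2 fun y hy => zc_comm _ _ (hU hy) _ (hU hx), fun x hx => zc_sq _ _ (hU hx)⟩
  have hno : NoA (o2 (CZ (S : Subgroup G))) (zl (S : Subgroup G) (centralizer (Z₀ : Set G))) :=
    fun A' hA' => gml hM h.ctx h.lK2 (h.kg h.lK2) hA'.2.1 (eab_iff.1 hA'.1).2
  have hUW : zl (S : Subgroup G) (centralizer (Z₀ : Set G)) ≤ W := zl_le ((zc_le_zl _ _).trans hVW) (le_normalizer_hul _ _)
  -- `C_A(U₂)` centralises `W₂`
  have hker : A ⊓ centralizer (zl (S : Subgroup G) (centralizer (Z₀ : Set G)) : Set G) ≤ centralizer (W : Set G) := by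
    have h1 := exch_inf hUel hUO hno hA
    exact le_sup_left.trans (((eab_iff.1 h1.1).1).trans (centralizer_le (w0 _ h1)))
  have hgml : ∀ C : Subgroup G, C ≤ F → (centralizer (W : Set G)).relIndex C ≤ (centralizer (C : Set G)).relIndex W := by
    intro C hC
    have e1 : (centralizer (W : Set G)).relIndex C =
        (centralizer (zl (S : Subgroup G) (centralizer (Z₀ : Set G)) : Set G)).relIndex C :=
      relIndex_congr (le_antisymm (inf_le_inf_left _ (centralizer_le hUW))
        (le_inf inf_le_left ((inf_le_inf_right _ (hC.trans hFA)).trans hker)))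
    rw [e1]
    exact (gml hM h.ctx h.lK2 (h.kg h.lK2) (hC.trans hFO) (eab_iff.1 (eab_mono hA.1 (hC.trans hFA))).2).trans
      (ri_mono _ hUW)
  have hEN : normalizer (R : Set G) ⊓ normalizer (B : Set G) ≤ normalizer (B : Set G) := inf_le_right
  have hG : GInR (centralizer (Z₀ : Set G)) (S : Subgroup G) F ((S : Subgroup G) ⊓ centralizer (B : Set G))
      (QQ (S : Subgroup G) R B ((S : Subgroup G) ⊓ centralizer (B : Set G))) W (B ⊓ zc (S : Subgroup G))
      (zc (S : Subgroup G)) R :=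
    { CM := le_normalizer_hul _ _
      sqM := (eab_iff.1 w1).2
      TC := hSK
      two := S.isPGroup'
      syl := not_dvd_relIndex S hSK
      ZM := inf_le_left.trans (h.BV.trans hVW)
      ZM' := (zc_le_zl _ _).trans hVW
      YM := h.RV.trans hVW
      TZ := hZB
      TZ' := le_centralizer_zc _
      NZ := by
        intro g hg
        have h1 := h.sZ hg
        rw [mem_normalizer_iff_cj, cj_inf, cj_eq_of_mem_normalizer h1.2,
          cj_eq_of_mem_normalizer (normalizer_le_normalizer_zc _ hg.2)]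
      NQ := h.nS_QQ h.sZ rfl hEN
      QY := inf_le_right.trans ((inf_le_left.trans inf_le_left).trans inf_le_right)
      QJ := inf_le_right.trans inf_le_right
      JT := inf_le_left
      AT := hFS
      par := by
        intro P hP0 hPK
        have hP := h.lK2.isPar S hP0 hPK
        rcases h.le_of_par hP with h1 | ⟨h1, _⟩
        · exact Or.inl (h1.trans (centralizer_le inf_le_right))
        · rcases h.altX h.nB h1 with h2 | h2
          · exact Or.inr (Or.inr ⟨h.le_o2_two hFO hFR hP, h2, h.par_QQ h.nB h1 h2⟩)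
          · exact Or.inl (h.le_of_alt h2)
      sep := by
        intro g _ hgQ _ z hz y hy hc
        have hc' : g * (y * z) = y * z * g := by
          have h3 : y * z = z * y := by
            have h4 := h.vc (h.RV hy)
            exact ((mem_centralizer_iff.1 h4) z (h.BV hz.1)).symm
          rw [h3]
          exact hc
        exact (h.sep hgQ.1.1.2 hgQ.1.2 hy hz.1 hc').2
      hb := by
        rcases b2 with h1 | h1
        · right
          intro v hv
          have h2 : v ∈ Z₀ := h1 ⟨hv.1, h.fixV (h.RV hv.1) fun s hs => mem_centralizer_iff.1 hv.2 s hs⟩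
          rw [mem_centralizer_iff]
          intro k hk
          exact ((mem_centralizer_iff.1 hk) v h2).symm
        · left
          intro d hdC hdQ hdo hcom
          exact h1 d ⟨hdC, hdQ⟩ hdo hcom
      sqA := (eab_iff.1 (eab_mono hA.1 hFA)).2
      AZ := by
        refine (le_inf (hFA.trans hAK) (le_inf (hFS.trans hSK) (hFS.trans hZB))).trans ?_
        rw [inf_comm]
        refine le_o2 inf_le_left ((o2_isPGroup _).to_le inf_le_right) ?_
        refine le_trans (le_inf Subgroup.le_normalizer ?_) inf_normalizer_le_normalizer_inf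
        refine (inf_le_right.trans (centralizer_le ?_)).trans (le_normalizer_o2 _)
        exact Set.singleton_subset_iff.2 ⟨h.eB, h.eZ⟩
      AY := hFR.trans (h.o2_sup h.nR h.RK)
      nk := by
        rw [v_eq]
        exact (inf_le_inf_right _ hFA).trans hker
      mv := hm
      no := hgml
      le := he.ge
      K := h.kg h.lK2 }
  obtain ⟨X, N, _, _, _, _, _, T', A', J', Q', Z₁, Y', h1⟩ := hG.inpR
  exact h1.false_of hM hR hE

/-- **side 1** -/
theorem beta
    (b1 : BadG (centralizer ({e} : Set G) ⊓ QQ (S : Subgroup G) R B ((S : Subgroup G) ⊓ centralizer (R : Set G)))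
      ((S : Subgroup G) ⊓ centralizer (R : Set G)) B)
    {X₁ F : Subgroup G} (hX : IsElementaryAbelian 2 X₁) (hXn : centralizer ({e} : Set G) ≤ normalizer (X₁ : Set G))
    (hVX : zl (S : Subgroup G) (YS S) ≤ X₁) (hUX : zl (S : Subgroup G) (centralizer ({e} : Set G)) ≤ X₁)
    (hF : F ∈ AA (o2 (CZ (S : Subgroup G)))) (hF2 : F ≤ o2 (centralizer (Z₀ : Set G)))
    (hFB : F ≤ o2 (centralizer (B : Set G)))
    (hm : ¬ F ≤ centralizer (zl (S : Subgroup G) (centralizer ({e} : Set G)) : Set G))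
    (hk : F ⊓ centralizer (zl (S : Subgroup G) (centralizer ({e} : Set G)) : Set G) ≤ centralizer (X₁ : Set G))
    (he : (centralizer (X₁ : Set G)).relIndex F = (centralizer (F : Set G)).relIndex X₁) : False := by
  have hFO : F ≤ o2 (CZ (S : Subgroup G)) := hF.2.1
  have hFR : F ≤ centralizer (R : Set G) := h.hA F hF hF2
  have hFS : F ≤ (S : Subgroup G) := hFO.trans o2C_le
  have hSK : (S : Subgroup G) ≤ centralizer ({e} : Set G) := (le_CZ S).trans h.C1
  have hZR : (S : Subgroup G) ≤ centralizer ((R ⊓ zc (S : Subgroup G) : Subgroup G) : Set G) :=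
    (le_CZ S).trans (centralizer_le inf_le_right)
  have hgml : ∀ C : Subgroup G, C ≤ F → (centralizer (X₁ : Set G)).relIndex C ≤ (centralizer (C : Set G)).relIndex X₁ := by
    intro C hC
    have e1 : (centralizer (X₁ : Set G)).relIndex C =
        (centralizer (zl (S : Subgroup G) (centralizer ({e} : Set G)) : Set G)).relIndex C :=
      relIndex_congr (le_antisymm (inf_le_inf_left _ (centralizer_le hUX))
        (le_inf inf_le_left ((inf_le_inf_right _ hC).trans hk)))
    rw [e1]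
    exact (gml hM h.ctx h.lK1 (h.kg h.lK1) (hC.trans hFO) (eab_iff.1 (eab_mono hF.1 hC)).2).trans (ri_mono _ hUX)
  have hG : GInR (centralizer ({e} : Set G)) (S : Subgroup G) F ((S : Subgroup G) ⊓ centralizer (R : Set G))
      (QQ (S : Subgroup G) R B ((S : Subgroup G) ⊓ centralizer (R : Set G))) X₁ (R ⊓ zc (S : Subgroup G))
      (zc (S : Subgroup G)) B :=
    { CM := hXn
      sqM := (eab_iff.1 hX).2
      TC := hSK
      two := S.isPGroup'
      syl := not_dvd_relIndex S hSK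
      ZM := inf_le_left.trans (h.RV.trans hVX)
      ZM' := (zc_le_zl _ _).trans hVX
      YM := h.BV.trans hVX
      TZ := hZR
      TZ' := le_centralizer_zc _
      NZ := by
        intro g hg
        have h1 := h.sE hg
        rw [mem_normalizer_iff_cj, cj_inf, cj_eq_of_mem_normalizer h1.1,
          cj_eq_of_mem_normalizer (normalizer_le_normalizer_zc _ hg.2)]
      NQ := h.nS_QQ h.sE rfl inf_le_left
      QY := inf_le_right.trans (inf_le_left.trans inf_le_right)
      QJ := inf_le_right.trans inf_le_right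
      JT := inf_le_left
      AT := hFS
      par := by
        intro P hP0 hPK
        have hP := h.lK1.isPar S hP0 hPK
        rcases h.le_of_par hP with h1 | ⟨h1, _⟩
        · exact Or.inl (h1.trans (centralizer_le inf_le_right))
        · rcases h.altX h.nR h1 with h2 | h2
          · exact Or.inr (Or.inr ⟨h.le_o2_one hFO hFR hF2 hP, h2, h.par_QQ h.nR h1 h2⟩)
          · exact Or.inl (h.le_of_alt h2)
      sep := by
        intro g _ hgQ _ z hz y hy hc
        exact (h.sep hgQ.1.1.2 hgQ.1.2 hz.1 hy hc).1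
      hb := Or.inl fun d hdC hdQ hdo hcom => b1 d ⟨hdC, hdQ⟩ hdo hcom
      sqA := (eab_iff.1 hF.1).2
      AZ := by
        refine (le_inf hF2 (le_inf (hFS.trans hSK) (hFS.trans hZR))).trans ?_
        rw [inf_comm]
        refine le_o2 inf_le_left ((o2_isPGroup _).to_le inf_le_right) ?_
        refine le_trans (le_inf Subgroup.le_normalizer ?_) inf_normalizer_le_normalizer_inf
        exact (inf_le_right.trans (centralizer_le h.Z0R)).trans (le_normalizer_o2 _)
      AY := hFB.trans (h.o2_sup h.nB h.BK)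
      nk := by
        rw [v_eq]
        exact hk
      mv := fun hc => hm (hc.trans (centralizer_le hUX))
      no := hgml
      le := he.ge
      K := h.kg h.lK1 }
  obtain ⟨X, N, _, _, _, _, _, T', A', J', Q', Z₁, Y', h1⟩ := hG.inpR
  exact h1.false_of hM hR hE

/-- **The frame is impossible.** -/
theorem false_of
    (b1 : BadG (centralizer ({e} : Set G) ⊓ QQ (S : Subgroup G) R B ((S : Subgroup G) ⊓ centralizer (R : Set G)))
      ((S : Subgroup G) ⊓ centralizer (R : Set G)) B)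
    (b2 : R ⊓ zc (S : Subgroup G) ≤ Z₀ ∨
      BadG (centralizer (Z₀ : Set G) ⊓ QQ (S : Subgroup G) R B ((S : Subgroup G) ⊓ centralizer (B : Set G)))
        ((S : Subgroup G) ⊓ centralizer (B : Set G)) R) : False := by
  rcases h.main hM with ⟨A, hA, -, hAK, F, hFA, hFR, hm, he⟩ | ⟨X₁, hX, hXn, hVX, hUX, -, F, hF, -, hF2, hFB, hm, -, hk, he⟩
  · exact h.alpha hM hR hE b2 hA hAK hFA hFR hm he
  · exact h.beta hM hR hE b1 hX hXn hVX hUX hF hF2 hFB hm hk he

end FrV

/-- `FrE` is the case `Z₀ = R ∩ Z` -/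
theorem FrE.toV [Finite G] {S : Sylow 2 G} {R B : Subgroup G} {e : G} (h : FrE S R B e) :
    FrV S R B (R ⊓ zc (S : Subgroup G)) e :=
  { ctx := h.ctx, full := h.full, nR := h.nR, nB := h.nB, sE := h.sE, sZ := h.sZ, RV := h.RV, BV := h.BV
    Z0R := le_rfl, ne := h.ne, hA := fun A hA _ => h.hA A hA, low := h.low, vc := h.vc, vs := h.vs, eZ := h.eZ
    eB := h.eB, e1 := h.e1, tr := h.tr, spl := h.spl }

/-- **`FrE` is impossible.** -/
theorem FrE.dead [Finite G] {S : Sylow 2 G} {R B : Subgroup G} {e : G} (h : FrE S R B e) (hM : MLK.{u, u})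
    (hR : RedP.{u, u}) (hE : ML.Ex.Two.Ext.{u, u})
    (b1 : BadG (centralizer ({e} : Set G) ⊓ QQ (S : Subgroup G) R B ((S : Subgroup G) ⊓ centralizer (R : Set G)))
      ((S : Subgroup G) ⊓ centralizer (R : Set G)) B) : False :=
  h.toV.false_of hM hR hE b1 (Or.inl le_rfl)

end Cfsg.Agent.Omega.NOThreeL.RZ.TwoC

end

section


/-!
# [R-z], case (II) (helper513 #24309, #24705; helper885 #24934; helper960 #24850): the two sides, any `K₁`, `K₂`

`S`, `Z`, `C = CZ S`, `O = O₂(C)` as in `Ab.lean`; `K₁, K₂ ≥ C` local, `K₁ ≤ ⟨C, E₁⟩`, `E₁` normalises `NR = ⟨V^{C_G(R₁)}⟩`,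
`E₂ ≤ K₂` normalises `Z₀` and `B`, `⟨K₁, E₂⟩` nonlocal: `AbK S K₁ K₂ E₁ E₂ Z₀ B V R₁`. E.g. `K₁ = ⟨L, C⟩` or `⟨L, C⟩ N_G(S)`
or `C_G(e)` (`E₁ = (K₁ ∩ Y) (K₁ ∩ N_G(S))`), `K₂ = C_G(Z₁)` or `C_G(Z₁) N_G(S)`, `E₂ = C_Y(R)` or the block types.

* **`AbK.twoD`** : `Side.TwoD` (with `⟨C, E₂⟩` in the place of `K₂`), `U₁ = zl S K₁`, `W₂ = ⟨V^{K₂}⟩`, `NB = ⟨Z₀^{C_G(B)}⟩`;
* `AbK.le_o2K1`, `AbK.le_o2K2`, `AbK.le_o2R`, `AbK.le_o2B` : where `A` and `F` lie.
-/

set_option autoImplicit false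
set_option linter.unusedSectionVars false

namespace Cfsg.Agent.Omega.NOThreeL.RZ.TwoC

open Subgroup Cfsg
open Cfsg.Agent.ZN (o2 zc zl jj)
open Cfsg.Agent.ZN.ChoiceBase hiding mem_zc
open Cfsg.Agent.Omega.ML.Final (MLK)
open Cfsg.Agent.Omega.ML.GMod (hul hul_le hul_le_of le_hul cj_le_hul le_normalizer_hul nc ri_mono
  normalizer_le_normalizer_o2)
open Cfsg.Agent.Omega.MinPar Cfsg.Agent.Omega.Frame Cfsg.Agent.Omega.FrameNOFF
open Cfsg.Agent.Omega.NO3b.Bang
open Cfsg.Agent.Omega.NO3S.EThree.ExactA (eab_iff eab_mono)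
open Cfsg.Agent.Omega.EK3.Rank (NoOn)
open Cfsg.Agent.Omega.NoFF.Basic (comm_symm)
open Cfsg.Agent.Omega.GI (relIndex_congr relIndex_sup_of_comm)
open Cfsg.Agent.MinSimple.VModule (zc_le_zl le_normalizer_zl zl_le zc_le zc_sq zc_comm mem_zc le_centralizer_zc
  le_normalizer_o2 o2_isPGroup o2_le le_o2 normalizer_le_normalizer_zc)
open Cfsg.Agent.Omega.NOThreeL.RZ.TwoC.Loc

universe u

variable {G : Type u} [Group G]

/-- **The abstract frame of case (II), `K₁`, `K₂` variables.** -/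
structure AbK [Finite G] (S : Sylow 2 G) (K₁ K₂ E₁ E₂ Z₀ B V R₁ : Subgroup G) : Prop where
  ctx : Ctx G
  l1 : IsLoc (S : Subgroup G) K₁
  l2 : IsLoc (S : Subgroup G) K₂
  C1 : CZ (S : Subgroup G) ≤ K₁
  C2 : CZ (S : Subgroup G) ≤ K₂
  e1 : E₁ ≤ K₁
  g1 : K₁ ≤ CZ (S : Subgroup G) ⊔ E₁
  EN : E₁ ≤ normalizer (hul V (centralizer (R₁ : Set G)) : Set G)
  e2 : E₂ ≤ K₂
  EZ : E₂ ≤ normalizer (Z₀ : Set G)
  EB : E₂ ≤ normalizer (B : Set G)
  nn : NN (S : Subgroup G) V
  ZV : zc (S : Subgroup G) ≤ V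
  low : V ≤ o2 (CZ (S : Subgroup G))
  R2 : IsPGroup 2 R₁
  R1 : R₁ ≠ ⊥
  SR : (S : Subgroup G) ≤ normalizer (R₁ : Set G)
  RK : centralizer (R₁ : Set G) ≤ K₂
  B2 : IsPGroup 2 B
  B1 : B ≠ ⊥
  SB : (S : Subgroup G) ≤ normalizer (B : Set G)
  zB : zc (S : Subgroup G) ≤ (zc (S : Subgroup G) ⊓ B) ⊔ Z₀
  Z0 : Z₀ ≤ zc (S : Subgroup G)
  BW : B ≤ hul V K₂
  BU : hul Z₀ (centralizer (B : Set G)) ≤ zl (S : Subgroup G) K₁
  nl : ∀ U : Subgroup G, IsPGroup 2 U → K₁ ≤ normalizer (U : Set G) → E₂ ≤ normalizer (U : Set G) → U = ⊥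

namespace AbK

variable [Finite G] {S : Sylow 2 G} {K₁ K₂ E₁ E₂ Z₀ B V R₁ : Subgroup G} (h : AbK S K₁ K₂ E₁ E₂ Z₀ B V R₁)
include h

theorem kg {X : Subgroup G} (hL : IsLoc (S : Subgroup G) X) : IsKGroup X :=
  ML.GNN.kgroup_of_isLoc h.ctx h.ctx.not_isPGroup hL

theorem zc_ne : zc (S : Subgroup G) ≠ ⊥ :=
  MinSimple.Basic.zc_ne_bot S.isPGroup' (h.ctx.sylow_ne_bot S)

/-- `C_G(R₁) S` is local -/
theorem locR : IsLoc (S : Subgroup G) (centralizer (R₁ : Set G) ⊔ (S : Subgroup G)) :=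
  isLoc_of_le_normalizer S le_sup_right h.R2 h.R1 (sup_le (centralizer_le_normalizer _) h.SR)

theorem hul_R : hul V (centralizer (R₁ : Set G) ⊔ (S : Subgroup G)) = hul V (centralizer (R₁ : Set G)) := by
  refine le_antisymm (hul_le_of (le_hul _ _) ?_) (hul_mono le_sup_left)
  exact sup_le (le_normalizer_hul _ _) (norm_hul h.nn.norm (h.SR.trans (nc _)))

/-- `C_G(B) S` is local -/
theorem locB : IsLoc (S : Subgroup G) (centralizer (B : Set G) ⊔ (S : Subgroup G)) :=
  isLoc_of_le_normalizer S le_sup_right h.B2 h.B1 (sup_le (centralizer_le_normalizer _) h.SB)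

/-- `⟨Z^{C_G(B) S}⟩ = ⟨Z₀^{C_G(B)}⟩ (Z ∩ B)` -/
theorem zl_B : zl (S : Subgroup G) (centralizer (B : Set G) ⊔ (S : Subgroup G)) =
    hul Z₀ (centralizer (B : Set G)) ⊔ (zc (S : Subgroup G) ⊓ B) := by
  apply le_antisymm
  · refine zl_le ?_ ?_
    · exact h.zB.trans (sup_le le_sup_right ((le_hul _ _).trans le_sup_left))
    · have hSZ0 : (S : Subgroup G) ≤ normalizer (Z₀ : Set G) :=
        ((le_CZ S).trans (centralizer_le h.Z0)).trans (centralizer_le_normalizer _)
      refine sup_le (le_normalizer_sup (le_normalizer_hul _ _) ?_) (le_normalizer_sup ?_ ?_)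
      · exact (centralizer_le inf_le_right).trans (centralizer_le_normalizer _)
      · exact norm_hul hSZ0 (h.SB.trans (nc _))
      · exact ((le_CZ S).trans (centralizer_le inf_le_left)).trans (centralizer_le_normalizer _)
  · refine sup_le ?_ (inf_le_left.trans (zc_le_zl _ _))
    refine hul_le_of (h.Z0.trans (zc_le_zl _ _)) (le_sup_left.trans (le_normalizer_zl _ _))

theorem hRW : hul V (centralizer (R₁ : Set G)) ≤ hul V K₂ := hul_mono h.RK

/-! ### Where `A` and `F` lie -/

/-- `A ∈ AA(C_O(U₁))`: `A ≤ O₂(K₁)` -/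
theorem le_o2K1 : o2 (CZ (S : Subgroup G)) ⊓ centralizer (zl (S : Subgroup G) K₁ : Set G) ≤ o2 K₁ :=
  inf_cent_le h.l1.le (zc_le_zl _ _) (le_normalizer_zl _ _)

/-- `A ∈ AA(C_O(W₂))`: `A ≤ O₂(K₂)` -/
theorem le_o2K2 : o2 (CZ (S : Subgroup G)) ⊓ centralizer (hul V K₂ : Set G) ≤ o2 K₂ :=
  inf_cent_le h.l2.le (h.ZV.trans (le_hul _ _)) (le_normalizer_hul _ _)

/-- `F = C_A(NR) ≤ O₂(C_G(R₁) S)` -/
theorem le_o2R : o2 (CZ (S : Subgroup G)) ⊓ centralizer (hul V (centralizer (R₁ : Set G)) : Set G) ≤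
    o2 (centralizer (R₁ : Set G) ⊔ (S : Subgroup G)) := by
  rw [← h.hul_R]
  exact inf_cent_le le_sup_right (h.ZV.trans (le_hul _ _)) (le_normalizer_hul _ _)

/-- `F = C_A(NB) ≤ O₂(C_G(B) S)` if `F` centralises `B` -/
theorem le_o2B {F : Subgroup G} (hF : F ≤ o2 (CZ (S : Subgroup G)))
    (hFN : F ≤ centralizer (hul Z₀ (centralizer (B : Set G)) : Set G)) (hFB : F ≤ centralizer (B : Set G)) :
    F ≤ o2 (centralizer (B : Set G) ⊔ (S : Subgroup G)) := by
  refine le_trans (le_inf hF ?_) (inf_cent_le (W := zl (S : Subgroup G) (centralizer (B : Set G) ⊔ (S : Subgroup G)))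
    le_sup_right (zc_le_zl _ _) (le_normalizer_zl _ _))
  rw [h.zl_B]
  exact comm_symm (sup_le (comm_symm hFN) (inf_le_right.trans (comm_symm hFB)))

variable (hM : MLK.{u, u})
include hM

/-- `(NO)` on `⟨V^{C_G(R₁)}⟩` -/
theorem noOnR : NoOn (o2 (CZ (S : Subgroup G))) (hul V (centralizer (R₁ : Set G))) := by
  rw [← h.hul_R]
  exact noOn_hul hM h.ctx h.locR (h.kg h.locR) h.nn h.low h.ZV

/-- `(NO)` on `⟨Z₀^{C_G(B)}⟩` for the elementary abelian `A ≤ O` centralising `B` -/
theorem noB {A : Subgroup G} (hel : IsElementaryAbelian 2 A) (hA : A ≤ o2 (CZ (S : Subgroup G)))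
    (hAB : A ≤ centralizer (B : Set G)) :
    (centralizer (hul Z₀ (centralizer (B : Set G)) : Set G)).relIndex A ≤
      (centralizer (A : Set G)).relIndex (hul Z₀ (centralizer (B : Set G))) := by
  have hX := h.locB
  have h1 := gml hM h.ctx hX (h.kg hX) hA (eab_iff.1 hel).2
  have hzc := hX.zl_le S h.ctx.char2
  rw [h.zl_B] at h1 hzc
  set NB : Subgroup G := hul Z₀ (centralizer (B : Set G)) with hNB
  have hAZ : A ≤ centralizer ((zc (S : Subgroup G) ⊓ B : Subgroup G) : Set G) := hAB.trans (centralizer_le inf_le_right)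
  have e1 : (centralizer ((NB ⊔ (zc (S : Subgroup G) ⊓ B) : Subgroup G) : Set G)).relIndex A =
      (centralizer (NB : Set G)).relIndex A := by
    refine relIndex_congr (le_antisymm (inf_le_inf_left _ (centralizer_le (SetLike.coe_subset_coe.2 le_sup_left))) ?_)
    refine le_inf inf_le_left (comm_symm (sup_le (comm_symm inf_le_right) (comm_symm (inf_le_left.trans hAZ))))
  have e2 : (centralizer (A : Set G)).relIndex (NB ⊔ (zc (S : Subgroup G) ⊓ B)) = (centralizer (A : Set G)).relIndex NB := by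
    refine relIndex_sup_of_comm (comm_symm hAZ) ?_
    intro x hx
    rw [mem_centralizer_iff]
    intro y hy
    exact zc_comm _ _ (hzc (le_sup_right (a := NB) hy)) _ (hzc (le_sup_left (b := zc (S : Subgroup G) ⊓ B) hx))
  rwa [e1, e2] at h1

/-- **The two sides.** -/
theorem twoD :
    Side.TwoD (o2 (CZ (S : Subgroup G))) (CZ (S : Subgroup G)) K₁ (CZ (S : Subgroup G) ⊔ E₂) E₁ E₂
      (zl (S : Subgroup G) K₁) (hul V K₂) (hul V (centralizer (R₁ : Set G))) (hul Z₀ (centralizer (B : Set G))) := by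
  have l1 := h.l1
  have l2 := h.l2
  have hnn := nn_hul hM h.ctx l2 (h.kg l2) h.nn h.low
  have hO1 : o2 K₁ ≤ o2 (CZ (S : Subgroup G)) := o2_le_o2 S (le_CZ S) h.C1
  have hO2 : o2 K₂ ≤ o2 (CZ (S : Subgroup G)) := o2_le_o2 S (le_CZ S) h.C2
  have hz1 := l1.zl_le S h.ctx.char2
  have hK2 : CZ (S : Subgroup G) ⊔ E₂ ≤ K₂ := sup_le h.C2 h.e2
  exact
  { OD := o2_le _
    DO := le_normalizer_o2 _
    D1 := h.C1
    D2 := le_sup_left
    e1 := h.e1
    g1 := h.g1
    e2 := le_sup_right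
    g2 := sup_le ((le_inf h.C1 le_sup_left).trans le_sup_left) le_sup_right
    el1 := eab_iff.2 ⟨fun x hx => mem_centralizer_iff.2 fun y hy => zc_comm _ _ (hz1 hy) _ (hz1 hx),
      fun x hx => zc_sq _ _ (hz1 hx)⟩
    el2 := hul_eab hM h.ctx l2 (h.kg l2) h.nn h.low
    UO := (hz1.trans (zc_le _)).trans hO1
    WO := hnn.le.trans hO2
    KU := le_normalizer_zl _ _
    KW := hK2.trans (le_normalizer_hul _ _)
    q1 := norm_inf h.C1 (zc_le_zl _ _) (le_normalizer_zl _ _)
    q2 := hK2.trans (norm_inf h.C2 (h.ZV.trans (le_hul _ _)) (le_normalizer_hul _ _))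
    core1 := by
      intro X hX hn
      have h1 : X ≤ o2 K₁ := le_o2 (hX.trans ((o2_le _).trans h.C1)) ((o2_isPGroup _).to_le hX) hn
      intro x hx
      rw [mem_centralizer_iff]
      intro y hy
      exact ((mem_zc.1 (hz1 hy)).2.1 _ (h1 hx)).symm
    no1 := fun A hel hA => gml hM h.ctx l1 (h.kg l1) hA (eab_iff.1 hel).2
    no2 := noOn_hul hM h.ctx l2 (h.kg l2) h.nn h.low h.ZV
    RW := h.hRW
    ER := h.EN
    noR := fun A hA => h.noOnR hM A hA.1 (hA.2.1.trans inf_le_left)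
    BU := h.BU
    EB := norm_hul h.EZ (h.EB.trans (nc _))
    noB := fun A hA => h.noB hM hA.1 (hA.2.1.trans inf_le_left)
      ((hA.2.1.trans inf_le_right).trans (centralizer_le h.BW))
    nonloc := fun X hX h1 h2 => h.nl X ((o2_isPGroup _).to_le hX) h1 (le_sup_right.trans h2)
    ne := fun e => h.zc_ne (le_bot_iff.1 (e ▸ zc_le_zl _ _)) }

end AbK

end Cfsg.Agent.Omega.NOThreeL.RZ.TwoC

end

end
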