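import Cfsg.Agent.Mrg.Omega.NOThreeL.RRed.Blk.DecDef
import Cfsg.Agent.Mrg.Omega.NOThreeL.RRed.Blk.AsmOf
import Cfsg.Agent.Mrg.Omega.NOThreeL.RRed.Blk.Def
import Cfsg.Agent.Mrg.Omega.NOThreeL.RZ.TwoC.BadE
import Cfsg.Agent.Mrg.Omega.NOThreeL.RRed.Blk.AsmCore

-- merged: Cfsg.Agent.Mrg.Omega.NOThreeL.RRed.Blk.DecNat
section

/-!
# NO-3L, box R: `Blk.Dec` from a family of natural blocks (helper797)

**`dec_of_fam`** : `L` acts on `U`, `X = XH Q` the group induced; a family of natural blocks `Fam (im Q S) FF N C` such that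
`⨅ C D` is `X`-invariant gives `Dec S L U N' E' R₀`, `N' = su Q (N D)`, `E' = pre Q (Eg FF N D)`, `R₀ = su Q (⨅ C D)`.
-/

set_option autoImplicit false
set_option linter.unusedSectionVars false

namespace Cfsg.Agent.Omega.NOThreeL.RRed.Blk.Asm

open Subgroup
open Cfsg.Agent.Omega.NOThreeL.RRed.NS (fxd brk mem_fxd)
open Cfsg.Agent.Omega.NOThreeL.RRed.Blk (Dec)
open Cfsg.Agent.Omega.NOThreeL.RRed.Blk.TypesGam (Bk rt)
open Cfsg.Agent.Omega.NOThreeL.RRed.Blk.Types (mem_cj)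
open Cfsg.Agent.Omega.NOThreeL.RSplit (Nrm)
open Cfsg.Agent.Omega.NOThreeL.RRed.Blk.TypesNat (XH ph ph_smul XH_faith ph_eq ph_surj mem_ker im)
open scoped Pointwise

universe u

variable {G : Type u} [Group G] {L U : Subgroup G} {Q : Nrm L U}

/-- elements of `su` and the action -/
theorem su_cent {W : Subgroup (XH Q)} {M : AddSubgroup Q.Mod} (h : ∀ x ∈ W, ∀ m ∈ M, x • m = m) :
    pre Q W ≤ centralizer (su Q M : Set G) := by
  intro x hx
  obtain ⟨hxL, hxW⟩ := mem_pre.1 hx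
  rw [mem_centralizer_iff]
  rintro y ⟨hyU, hyM⟩
  have h1 := h _ hxW _ hyM
  rw [ph_smul] at h1
  have h3 := congrArg Q.val h1
  rw [Nrm.val_smul, Nrm.val_of] at h3
  exact (mul_inv_eq_iff_eq_mul.1 h3).symm

theorem su_norm {W : Subgroup (XH Q)} {M : AddSubgroup Q.Mod} (h : ∀ x ∈ W, ∀ m, m ∈ M ↔ x • m ∈ M) :
    pre Q W ≤ normalizer (su Q M : Set G) := by
  intro x hx
  obtain ⟨hxL, hxW⟩ := mem_pre.1 hx
  have h1 := conj_su (Q := Q) (W := M) (W' := M) ⟨x, hxL⟩ (h _ hxW)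
  rw [mem_normalizer_iff]
  intro y
  have h3 : x * y * x⁻¹ ∈ MulAut.conj x • su Q M ↔ x * y * x⁻¹ ∈ su Q M := by
    rw [show MulAut.conj x • su Q M = su Q M from h1]
  rw [mem_cj] at h3
  rw [← h3]
  have e1 : x⁻¹ * (x * y * x⁻¹) * x = y := by group
  rw [e1]

theorem mem_pre_top {x : G} (hx : x ∈ L) : x ∈ pre Q ⊤ := mem_pre.2 ⟨hx, mem_top _⟩

theorem dec_of_fam [Finite G] {S : Subgroup G} (SL : S ≤ L) {FF : Set (Subgroup (XH Q))}
    {N C : Subgroup (XH Q) → AddSubgroup Q.Mod} (F : Fam (im Q S) FF N C)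
    (hR : ∀ g : XH Q, ∀ m ∈ Rs FF C, g • m ∈ Rs FF C) :
    Dec S L U (fun b : FF => su Q (N b)) (fun b : FF => pre Q (Eg FF N b)) (su Q (Rs FF C)) where
  SL := SL
  LU := Q.nrm
  ab := by
    intro x hx
    rw [mem_centralizer_iff]
    exact fun y hy => Q.ab y hy x hx
  sup := by
    rw [← su_iSup, ← su_sup]
    have h1 : (⨆ b : FF, N b) ⊔ Rs FF C = ⊤ := by
      rw [eq_top_iff]
      intro v _
      obtain ⟨n, hn, r, hr, rfl⟩ := F.exists_dec v
      refine AddSubgroup.add_mem_sup ?_ hr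
      have h3 : (⨆ D ∈ FF, N D) ≤ ⨆ b : FF, N b := iSup₂_le fun D hD => le_iSup (fun b : FF => N b) ⟨D, hD⟩
      exact h3 hn
    rw [h1, su_top]
  ind := by
    intro b
    have h1 : (⨆ c : {c : FF // c ≠ b}, su Q (N c.1)) ⊔ su Q (Rs FF C) ≤ su Q (C b) := by
      rw [← su_iSup, ← su_sup]
      refine su_mono (sup_le (iSup_le fun c => ?_) fun m hm => mem_Rs.1 hm b b.2)
      exact F.ind b b.2 c.1 c.1.2 fun e => c.2 (Subtype.ext e)
    rw [eq_bot_iff]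
    rintro x ⟨⟨hx, hxN⟩, hxC⟩
    obtain ⟨_, hxC'⟩ := h1 hxC
    have h3 := (F.nb b b.2).disj hxN hxC'
    rw [mem_bot]
    exact congrArg Q.val h3
  ne := by
    intro b h0
    apply (F.nb b b.2).ne_bot
    rw [AddSubgroup.eq_bot_iff_forall]
    intro m hm
    have h1 : Q.val m ∈ su Q (N b) := val_mem_su.2 hm
    rw [h0, mem_bot] at h1
    exact Nrm.eq_zero_iff.2 h1
  Rnor := by
    have h1 : pre Q ⊤ ≤ normalizer (su Q (Rs FF C) : Set G) := su_norm fun x _ m => by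
      refine ⟨hR x m, fun hm => ?_⟩
      have h3 := hR x⁻¹ _ hm
      rwa [inv_smul_smul] at h3
    exact fun x hx => h1 (mem_pre_top hx)
  EL := fun b => pre_le
  CE := fun b => cent_le_pre
  perm := by
    intro g hg b
    obtain ⟨D', hD', -, h1⟩ := F.perm (ph Q ⟨g, hg⟩) b b.2
    exact ⟨⟨D', hD'⟩, conj_su (Q := Q) ⟨g, hg⟩ h1, conj_pre (Q := Q) ⟨g, hg⟩ (Eg_conj h1)⟩
  EN := fun b => su_norm (F.Eg_N (D := b))
  EC := fun b c hbc => su_cent fun x hx m hm =>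
    F.Eg_oth b.2 c.2 (fun e => hbc (Subtype.ext e.symm)) hm x hx
  ER := fun b => su_cent fun x hx m hm => F.Eg_R hR hm x hx

end Cfsg.Agent.Omega.NOThreeL.RRed.Blk.Asm

end

-- merged: Cfsg.Agent.Mrg.Omega.NOThreeL.RZ.TwoC.BadNat
section

/-!
# [R-z]: the hypothesis `bad` of `FrE.false_of` for the natural blocks (`q ≥ 4`)

`Q : Nrm L U`, `U = zl S L`, `FF` a family of natural blocks (`Asm.Fam`), `N' b = su Q (N b)`, `E' b = pre Q (Eg FF N b)`,
`R₀ = su Q (Rs FF C)` (helper797's `dec_of_fam`).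

* `irr_mod`, `irr_nat` : the blocks are irreducible;
* `rt_nat` : an `A` with `im Q A = D ∈ FF` is a root group on `N' D`;
* `norm_E` : `N(L) ∩ N(∏ N' b)` normalises `⨆ E' b`;
* **`bad_nat`** : the hypothesis `bad`; the atoms `A ∈ EE S U` play the role of the root groups.
-/

set_option autoImplicit false
set_option linter.unusedSectionVars false

namespace Cfsg.Agent.Omega.NOThreeL.RZ.TwoC.BadNat

open Subgroup
open Cfsg.Agent.ZN (zc zl)
open Cfsg.Agent.Omega.NOThreeL.RSplit (Nrm)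
open Cfsg.Agent.Omega.NOThreeL.RRed.NS (smul_eq_iff)
open Cfsg.Agent.Omega.NOThreeL.RRed.Blk (Dec Co IsC)
open Cfsg.Agent.Omega.NOThreeL.RRed.Blk.Asm
open Cfsg.Agent.Omega.NOThreeL.RRed.Blk.AsmCore (EE)
open Cfsg.Agent.Omega.NOThreeL.RRed.Blk.TypesNat (XH ph ph_smul XH_faith ph_eq ph_surj mem_ker im mem_im)
open Cfsg.Agent.Omega.NOThreeL.RRed.Blk.TypesGam (Bk rt up_mem)
open Cfsg.Agent.Omega.NOThreeL.RRed.Blk.Types (mem_cj)
open Cfsg.Agent.Omega.NOThreeL.RZ.TwoC.BadE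
open scoped Pointwise

universe u v w

/-! ### Modules -/

section mod

variable {X : Type u} {V : Type v} [Group X] [AddCommGroup V] [DistribMulAction X V] {F : Type w} [Field F]
  {e f : F →+ V} {C : AddSubgroup V} {up lo : F → X} (h : Bk e f C up lo)
include h

theorem up_mem' (t : F) : ∀ m ∈ e.range ⊔ f.range, up t • m ∈ e.range ⊔ f.range := by
  intro m hm
  obtain ⟨_, ⟨a, rfl⟩, _, ⟨b, rfl⟩, rfl⟩ := AddSubgroup.mem_sup.1 hm
  rw [smul_add, h.up_e, h.up_f]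
  exact add_mem (AddSubgroup.mem_sup_left ⟨a, rfl⟩)
    (add_mem (AddSubgroup.mem_sup_right ⟨b, rfl⟩) (AddSubgroup.mem_sup_left ⟨t * b, rfl⟩))

theorem e_zero {a : F} (ha : e a = 0) : a = 0 := by
  have h1 := h.ind a 0 (by rw [ha, map_zero, add_zero]; exact zero_mem _)
  exact h1.1

/-- **`N` is irreducible** -/
theorem irr_mod {B : AddSubgroup V} (hB : B ≤ e.range ⊔ f.range) (hup : ∀ t, ∀ m ∈ B, up t • m ∈ B)
    (hlo : ∀ t, ∀ m ∈ B, lo t • m ∈ B) (hne : B ≠ ⊥) : e.range ⊔ f.range ≤ B := by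
  -- from one vector
  have s1 : (∃ a, a ≠ 0 ∧ f a ∈ B) → ∀ z, e z ∈ B := by
    rintro ⟨a, ha, h1⟩ z
    have h3 := hup (z / a) _ h1
    rw [h.up_f, div_mul_cancel₀ _ ha] at h3
    have h5 := sub_mem h3 h1
    rwa [add_sub_cancel_left] at h5
  have s2 : (∃ a, a ≠ 0 ∧ e a ∈ B) → ∀ z, f z ∈ B := by
    rintro ⟨a, ha, h1⟩ z
    have h3 := hlo (z / a) _ h1
    rw [h.lo_e, div_mul_cancel₀ _ ha] at h3
    have h5 := sub_mem h3 h1
    rwa [add_sub_cancel_left] at h5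
  obtain ⟨m, hm, hm0⟩ : ∃ m ∈ B, m ≠ 0 := by
    by_contra hcon
    push Not at hcon
    exact hne ((AddSubgroup.eq_bot_iff_forall B).2 hcon)
  obtain ⟨_, ⟨a, rfl⟩, _, ⟨b, rfl⟩, rfl⟩ := AddSubgroup.mem_sup.1 (hB hm)
  have key : (∀ z, e z ∈ B) ∧ ∀ z, f z ∈ B := by
    by_cases hb : b = 0
    · subst hb
      rw [map_zero, add_zero] at hm hm0
      have ha : a ≠ 0 := by
        rintro rfl
        exact hm0 (map_zero _)
      have h3 := s2 ⟨a, ha, hm⟩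
      exact ⟨s1 ⟨1, one_ne_zero, h3 1⟩, h3⟩
    · have h3 : ∀ z, e z ∈ B := by
        intro z
        have h5 := hup (z / b) _ hm
        rw [smul_add, h.up_e, h.up_f, div_mul_cancel₀ _ hb, ← add_assoc] at h5
        have h7 := sub_mem h5 hm
        rwa [add_sub_cancel_left] at h7
      exact ⟨h3, s2 ⟨1, one_ne_zero, h3 1⟩⟩
  refine sup_le ?_ ?_
  · rintro _ ⟨a, rfl⟩
    exact key.1 a
  · rintro _ ⟨a, rfl⟩
    exact key.2 a

/-- `lo t = w up t w⁻¹`, `w = up 1 lo 1 up 1` -/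
theorem lo_eq (h2 : ∀ v : V, v + v = 0) (hf : ∀ x : X, (∀ v : V, x • v = v) → x = 1) :
    ∃ w : X, (∀ m ∈ e.range ⊔ f.range, w • m ∈ e.range ⊔ f.range) ∧ (∀ m : V, w • w • m = m) ∧
      ∀ t, lo t = w * up t * w⁻¹ := by
  obtain ⟨w, hw⟩ : ∃ w, w = up 1 * lo 1 * up 1 := ⟨_, rfl⟩
  have we : ∀ x, w • e x = f x := by
    intro x
    rw [hw, mul_smul, mul_smul, h.up_e, h.lo_e, smul_add, h.up_e, h.up_f]
    simp only [one_mul]
    calc e x + (f x + e x) = (e x + e x) + f x := by abel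
      _ = f x := by rw [h2, zero_add]
  have wf : ∀ x, w • f x = e x := by
    intro x
    rw [hw, mul_smul, mul_smul, h.up_f, one_mul, smul_add, h.lo_f, h.lo_e]
    simp only [one_mul]
    have e1 : f x + (e x + f x) = e x := by
      calc f x + (e x + f x) = (f x + f x) + e x := by abel
        _ = e x := by rw [h2, zero_add]
    rw [e1, h.up_e]
  have wc : ∀ c ∈ C, w • c = c := by
    intro c hc
    rw [hw, mul_smul, mul_smul, h.up_c _ c hc, h.lo_c _ c hc, h.up_c _ c hc]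
  refine ⟨w, ?_, ?_, fun t => ?_⟩
  · intro m hm
    obtain ⟨_, ⟨a, rfl⟩, _, ⟨b, rfl⟩, rfl⟩ := AddSubgroup.mem_sup.1 hm
    rw [smul_add, we, wf, add_comm]
    exact add_mem (AddSubgroup.mem_sup_left ⟨b, rfl⟩) (AddSubgroup.mem_sup_right ⟨a, rfl⟩)
  · intro m
    obtain ⟨x, y, c, hc, rfl⟩ := h.dec m
    simp only [smul_add, we, wf, wc c hc]
  rw [eq_mul_inv_iff_mul_eq]
  refine h.ext hf (fun z => ?_) (fun z => ?_) fun c hc => ?_
  · rw [mul_smul, mul_smul, we, h.lo_f, h.up_e, we]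
  · rw [mul_smul, mul_smul, wf, h.lo_e, h.up_f, smul_add, wf, we]
  · rw [mul_smul, mul_smul, wc c hc, h.lo_c t c hc, h.up_c t c hc, wc c hc]

end mod

/-! ### Subgroups of `G` -/

variable {G : Type u} [Group G] {L U : Subgroup G} {Q : Nrm L U}

theorem ex_su {B : AddSubgroup Q.Mod} {x : G} (hx : x ∈ su Q B) : ∃ m ∈ B, Q.val m = x := by
  obtain ⟨hxU, h⟩ := mem_su.1 hx
  exact ⟨Q.of x hxU, h, rfl⟩

theorem norm_su {T : Subgroup G} {B : AddSubgroup Q.Mod} (hT : T ≤ L)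
    (h : ∀ s : L, (s : G) ∈ T → ∀ m ∈ B, s • m ∈ B) : T ≤ normalizer (su Q B : Set G) := by
  have key : ∀ s ∈ T, ∀ w ∈ su Q B, s * w * s⁻¹ ∈ su Q B := by
    intro s hs w hw
    obtain ⟨m, hm, rfl⟩ := ex_su hw
    have h1 : Q.val ((⟨s, hT hs⟩ : L) • m) ∈ su Q B := val_mem_su.2 (h ⟨s, hT hs⟩ hs m hm)
    exact h1
  intro s hs
  rw [mem_normalizer_iff]
  intro w
  refine ⟨key s hs w, fun hw => ?_⟩
  have h1 := key s⁻¹ (inv_mem hs) _ hw
  have e1 : s⁻¹ * (s * w * s⁻¹) * s⁻¹⁻¹ = w := by group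
  rwa [e1] at h1

section rt

variable {F : Type w} [Field F] {e f : F →+ Q.Mod} {C : AddSubgroup Q.Mod} {up lo : F → XH Q}

/-- **`T` is a root group** -/
theorem rt_of (h : Bk e f C up lo) {T : Subgroup G} (hTH : T ≤ L)
    (h1 : ∀ s : L, (s : G) ∈ T → ∃ t, ph Q s = up t) (h2 : ∀ t, ∃ s : L, (s : G) ∈ T ∧ ph Q s = up t) :
    Rt (su Q (e.range ⊔ f.range)) (su Q e.range) T := by
  have hE : ∀ a, e a ∈ e.range ⊔ f.range := fun a => AddSubgroup.mem_sup_left ⟨a, rfl⟩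
  have hF : ∀ a, f a ∈ e.range ⊔ f.range := fun a => AddSubgroup.mem_sup_right ⟨a, rfl⟩
  have hsm : ∀ (s : L) (m : Q.Mod), (s : G) * Q.val m * (s : G)⁻¹ = Q.val (s • m) := fun _ _ => rfl
  have hact : ∀ (s : L) (t : F), ph Q s = up t → ∀ m : Q.Mod, s • m = up t • m := fun s t ht m => by
    rw [← ht, ph_smul]
  -- the parameter of an element which moves `N`
  have hpar : ∀ s : L, (s : G) ∈ T → (s : G) ∉ centralizer (su Q (e.range ⊔ f.range) : Set G) →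
      ∃ t, t ≠ 0 ∧ ∀ m : Q.Mod, s • m = up t • m := by
    intro s hs hc
    obtain ⟨t, ht⟩ := h1 s hs
    refine ⟨t, ?_, hact s t ht⟩
    rintro rfl
    apply hc
    rw [mem_cent_iff]
    intro x hx
    obtain ⟨m, hm, rfl⟩ := ex_su hx
    rw [hsm, hact s 0 ht m]
    obtain ⟨_, ⟨a, rfl⟩, _, ⟨b, rfl⟩, rfl⟩ := AddSubgroup.mem_sup.1 hm
    rw [smul_add, h.up_e, h.up_f, zero_mul, map_zero, add_zero]
  refine ⟨su_mono le_sup_left, ?_, ?_, ?_, ?_, ?_, ?_⟩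
  · refine norm_su hTH fun s hs m hm => ?_
    obtain ⟨t, ht⟩ := h1 s hs
    rw [hact s t ht m]
    exact up_mem' h t m hm
  · intro s hs
    rw [mem_cent_iff]
    intro x hx
    obtain ⟨_, ⟨a, rfl⟩, rfl⟩ := ex_su hx
    obtain ⟨t, ht⟩ := h1 ⟨s, hTH hs⟩ hs
    have h3 := hact _ t ht (e a)
    rw [h.up_e] at h3
    exact congrArg Q.val h3
  · intro hc
    obtain ⟨s, hs, ht⟩ := h2 1
    have h3 := mem_cent_iff.1 (hc hs) _ (val_mem_su.2 (hF 1))
    rw [hsm, hact s 1 ht, h.up_f] at h3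
    have h4 := Nrm.ext h3
    rw [add_eq_left, mul_one] at h4
    exact one_ne_zero (e_zero h h4)
  · intro s hs hc x hx h3
    obtain ⟨m, hm, rfl⟩ := ex_su hx
    obtain ⟨t, ht0, ht⟩ := hpar ⟨s, hTH hs⟩ hs hc
    have h4 : (⟨s, hTH hs⟩ : L) • m = m := Nrm.ext h3
    rw [ht m] at h4
    obtain ⟨_, ⟨a, rfl⟩, _, ⟨b, rfl⟩, rfl⟩ := AddSubgroup.mem_sup.1 hm
    rw [smul_add, h.up_e, h.up_f, ← add_assoc, add_eq_left] at h4
    have h5 := e_zero h h4
    rcases mul_eq_zero.1 h5 with h6 | h6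
    · exact absurd h6 ht0
    · subst h6
      refine val_mem_su.2 ?_
      rw [map_zero, add_zero]
      exact ⟨a, rfl⟩
  · intro s hs hc y hy
    obtain ⟨_, ⟨a, rfl⟩, rfl⟩ := ex_su hy
    obtain ⟨t, ht0, ht⟩ := hpar ⟨s, hTH hs⟩ hs hc
    refine ⟨Q.val (f (a / t)), val_mem_su.2 (hF _), ?_⟩
    have h3 := ht (f (a / t))
    rw [h.up_f, mul_div_cancel₀ _ ht0] at h3
    exact congrArg Q.val h3
  · intro x hx hml y hy
    obtain ⟨m, hm, rfl⟩ := ex_su hx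
    obtain ⟨_, ⟨a, rfl⟩, rfl⟩ := ex_su hy
    obtain ⟨_, ⟨x, rfl⟩, _, ⟨b, rfl⟩, rfl⟩ := AddSubgroup.mem_sup.1 hm
    have hb : b ≠ 0 := by
      rintro rfl
      apply hml
      refine val_mem_su.2 ?_
      rw [map_zero, add_zero]
      exact ⟨x, rfl⟩
    obtain ⟨s, hs, ht⟩ := h2 (a / b)
    refine ⟨s, hs, ?_⟩
    have h3 := hact s _ ht (e x + f b)
    rw [smul_add (up _), h.up_e, h.up_f, div_mul_cancel₀ _ hb, ← add_assoc] at h3
    exact congrArg Q.val h3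

end rt

section nat

variable {FF : Set (Subgroup (XH Q))} {N C : Subgroup (XH Q) → AddSubgroup Q.Mod}

/-- **the blocks are irreducible** -/
theorem irr_nat (h2 : ∀ v : Q.Mod, v + v = 0) {b : Subgroup (XH Q)} (hb : b ∈ FF) (nb : NB b (N b) (C b))
    {W : Subgroup G} (hW : W ≤ su Q (N b)) (hn : pre Q (Eg FF N b) ≤ normalizer (W : Set G)) (hne : W ≠ ⊥) :
    su Q (N b) ≤ W := by
  obtain ⟨K, _, _, e, f, up, lo, hB, hrt, hN⟩ := nb.ex
  have hup : ∀ t, up t ∈ Eg FF N b := fun t => le_Eg hb (by rw [← hrt]; exact up_mem t)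
  obtain ⟨w, w1, w2, w3⟩ := lo_eq hB h2 (XH_faith Q)
  rw [hN] at w1
  have hlo : ∀ t, lo t ∈ Eg FF N b := by
    intro t
    rw [w3]
    refine mem_Eg (g := w) hb (fun m => ⟨w1 m, fun hm => ?_⟩) (by rw [← hrt]; exact up_mem t)
    have h3 := w1 _ hm
    rwa [w2] at h3
  have key : ∀ x ∈ Eg FF N b, ∀ m ∈ Q.ad W, x • m ∈ Q.ad W := by
    intro x hx m hm
    obtain ⟨y, rfl⟩ := ph_surj Q x
    rw [ph_smul]
    exact (mem_normalizer_iff.1 (hn (mem_pre.2 ⟨y.2, hx⟩)) _).1 hm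
  have h3 := irr_mod hB (B := Q.ad W) (by
    rw [hN]
    intro m hm
    exact val_mem_su.1 (hW hm)) (fun t m hm => key _ (hup t) m hm) (fun t m hm => key _ (hlo t) m hm) (by
    intro h0
    apply hne
    rw [eq_bot_iff]
    intro x hx
    obtain ⟨m, -, rfl⟩ := ex_su (hW hx)
    have h4 : m ∈ Q.ad W := hx
    rw [h0, AddSubgroup.mem_bot] at h4
    rw [h4]
    exact one_mem _)
  rw [hN] at h3
  intro x hx
  obtain ⟨m, hm, rfl⟩ := ex_su hx
  exact h3 hm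

/-- **`A` is a root group** -/
theorem rt_nat (h2 : ∀ v : Q.Mod, v + v = 0) {b : Subgroup (XH Q)} (nb : NB b (N b) (C b)) {A : Subgroup G} (hAL : A ≤ L) (hA : im Q A = b) :
    ∃ l, Rt (su Q (N b)) l A := by
  obtain ⟨K, _, _, e, f, up, lo, hB, hrt, hN⟩ := nb.ex
  refine ⟨su Q e.range, ?_⟩
  rw [← hN]
  refine rt_of hB hAL (fun s hs => ?_) fun t => ?_
  · have h1 : ph Q s ∈ rt up := by
      rw [hrt, ← hA]
      exact mem_im.2 ⟨s, hs, rfl⟩
    obtain ⟨t, ht⟩ := (hB.mem_rt h2 (XH_faith Q)).1 h1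
    exact ⟨t, ht.symm⟩
  · have h1 : up t ∈ im Q A := by
      rw [hA, ← hrt]
      exact up_mem t
    exact mem_im.1 h1

end nat

/-! ### The element `d` -/

section fin

variable [Finite G] {S : Sylow 2 G} {L : Subgroup G} {Q : Nrm L (zl (S : Subgroup G) L)}
  {FF : Set (Subgroup (XH Q))} {N C : Subgroup (XH Q) → AddSubgroup Q.Mod}

/-- conjugates of minimal exact groups -/
theorem EE_conj {U : Subgroup G} {n : G} (hU : n ∈ normalizer (U : Set G)) {A : Subgroup G}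
    (hA : A ∈ EE (S : Subgroup G) U) (hS : MulAut.conj n • A ≤ (S : Subgroup G)) :
    MulAut.conj n • A ∈ EE (S : Subgroup G) U := by
  refine ⟨hS, ?_⟩
  rw [NOThreeL.RRed.NS.conj_eq_cj]
  exact NOThreeL.RRed.CI.mx_conj hA.2 hU

/-- the data -/
structure Dt (S : Sylow 2 G) (L : Subgroup G) (Q : Nrm L (zl (S : Subgroup G) L)) (FF : Set (Subgroup (XH Q)))
    (N C : Subgroup (XH Q) → AddSubgroup Q.Mod) : Prop where
  SL : (S : Subgroup G) ≤ L
  fam : Fam (im Q (S : Subgroup G)) FF N C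
  hR : ∀ g : XH Q, ∀ m ∈ Rs FF C, g • m ∈ Rs FF C
  sq : ∀ x ∈ zl (S : Subgroup G) L, x ^ 2 = 1
  /-- the root groups are induced by minimal exact groups -/
  hA : ∀ D ∈ FF, ∃ A ∈ EE (S : Subgroup G) (zl (S : Subgroup G) L), im Q A = D
  /-- `GB.oth` -/
  oth : ∀ D ∈ FF, ∀ A ∈ EE (S : Subgroup G) (zl (S : Subgroup G) L), im Q A ≠ D → ∀ a ∈ im Q A, ∀ m ∈ N D, a • m = m

variable (D : Dt S L Q FF N C)
include D

theorem Dt.two (v : Q.Mod) : v + v = 0 := Nrm.ext (by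
  rw [Nrm.val_add, Nrm.val_zero]
  have := D.sq _ (Q.val_mem v)
  rwa [pow_two] at this)

theorem Dt.eq_of {A : Subgroup G} (hA : A ∈ EE (S : Subgroup G) (zl (S : Subgroup G) L)) (b : FF)
    (hm : ¬ A ≤ centralizer (su Q (N b) : Set G)) : im Q A = b := by
  by_contra hne
  apply hm
  intro a ha
  rw [mem_cent_iff]
  intro x hx
  obtain ⟨m, hm, rfl⟩ := ex_su hx
  have h1 := D.oth b b.2 A hA hne _ (mem_im.2 ⟨⟨a, D.SL (hA.1 ha)⟩, ha, rfl⟩) m hm
  rw [ph_smul] at h1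
  exact congrArg Q.val h1

theorem Dt.mem_of {A : Subgroup G} (hA : A ∈ EE (S : Subgroup G) (zl (S : Subgroup G) L))
    (hm : ¬ A ≤ centralizer ((⨆ b : FF, su Q (N b) : Subgroup G) : Set G)) : im Q A ∈ FF := by
  have h1 : ∃ b : FF, ¬ A ≤ centralizer (su Q (N b) : Set G) := by
    by_contra hcon
    push Not at hcon
    apply hm
    intro a ha
    have h3 : (⨆ b : FF, su Q (N b)) ≤ centralizer ({a} : Set G) := by
      refine iSup_le fun b y hy => ?_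
      rw [mem_centralizer_singleton_iff]
      exact (mem_centralizer_iff.1 (hcon b ha) y hy)
    rw [mem_centralizer_iff]
    intro y hy
    exact mem_centralizer_singleton_iff.1 (h3 hy)
  obtain ⟨b, hb⟩ := h1
  rw [D.eq_of hA b hb]
  exact b.2

theorem Dt.dec : Dec (S : Subgroup G) L (zl (S : Subgroup G) L) (fun b : FF => su Q (N b))
    (fun b : FF => pre Q (Eg FF N b)) (su Q (Rs FF C)) := dec_of_fam D.SL D.fam D.hR

theorem Dt.irr (b : FF) (W : Subgroup G) (hW : W ≤ su Q (N b)) (hn : pre Q (Eg FF N b) ≤ normalizer (W : Set G))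
    (hne : W ≠ ⊥) : su Q (N b) ≤ W := irr_nat D.two b.2 (D.fam.nb b b.2) hW hn hne

theorem Dt.atom (b : FF) : ∃ A ∈ EE (S : Subgroup G) (zl (S : Subgroup G) L), im Q A = b ∧
    A ≤ (S : Subgroup G) ⊓ pre Q (Eg FF N b) ∧ ∃ l, Rt (su Q (N b)) l A := by
  obtain ⟨A, hA, hAb⟩ := D.hA b b.2
  refine ⟨A, hA, hAb, le_inf hA.1 fun a ha => ?_, rt_nat D.two (D.fam.nb b b.2) (hA.1.trans D.SL) hAb⟩
  refine mem_pre.2 ⟨D.SL (hA.1 ha), le_Eg b.2 ?_⟩
  rw [← hAb]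
  exact mem_im.2 ⟨_, ha, rfl⟩

theorem Dt.mv (b : FF) : ¬ (S : Subgroup G) ⊓ pre Q (Eg FF N b) ≤ centralizer (su Q (N b) : Set G) := by
  obtain ⟨A, hA, -, h1, l, hl⟩ := D.atom b
  exact fun h3 => hl.mv (h1.trans h3)

/-- **`N(L) ∩ N(∏ N b)` normalises `⨆ E' b`** -/
theorem Dt.norm_E {d : G} (hdL : d ∈ normalizer (L : Set G))
    (hdB : d ∈ normalizer ((⨆ b : FF, su Q (N b) : Subgroup G) : Set G)) :
    d ∈ normalizer ((⨆ b : FF, pre Q (Eg FF N b) : Subgroup G) : Set G) := by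
  rcases isEmpty_or_nonempty FF with hem | ⟨⟨b₀⟩⟩
  · rw [iSup_of_empty]
    rw [mem_normalizer_iff]
    intro x
    change x ∈ (⊥ : Subgroup G) ↔ d * x * d⁻¹ ∈ (⊥ : Subgroup G)
    rw [mem_bot, mem_bot, mul_inv_eq_one]
    exact ⟨fun h => by rw [h, mul_one], fun h => by simpa using h⟩
  set B : Subgroup G := ⨆ b : FF, su Q (N b) with hB
  set U : Subgroup G := zl (S : Subgroup G) L with hU
  set K1 : Subgroup G := closure {x | ∃ g ∈ L, ∃ A ∈ EE (S : Subgroup G) U, im Q A ∈ FF ∧ ∃ a ∈ A, x = g * a * g⁻¹} ⊔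
    (L ⊓ centralizer (U : Set G)) with hK1
  have e1 : (⨆ b : FF, pre Q (Eg FF N b)) = K1 := by
    apply le_antisymm
    · refine iSup_le fun b x hx => ?_
      obtain ⟨hxL, hxE⟩ := mem_pre.1 hx
      have h1 : Eg FF N b ≤ im Q K1 := by
        unfold Eg
        rw [closure_le]
        rintro _ ⟨g, D', hD', -, a, ha, rfl⟩
        obtain ⟨A, hA, rfl⟩ := D.hA D' hD'
        obtain ⟨g, rfl⟩ := ph_surj Q g
        obtain ⟨a, haA, rfl⟩ := mem_im.1 ha
        refine mem_im.2 ⟨g * a * g⁻¹, mem_sup_left (subset_closure ⟨g, g.2, A, hA, hD', a, haA, rfl⟩), ?_⟩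
        rw [map_mul, map_mul, map_inv]
      obtain ⟨k, hk, hkx⟩ := mem_im.1 (h1 hxE)
      have h3 : k⁻¹ * ⟨x, hxL⟩ ∈ (ph Q).ker := by
        rw [MonoidHom.mem_ker, map_mul, map_inv, hkx, inv_mul_cancel]
      have h4 : (k : G)⁻¹ * x ∈ K1 := mem_sup_right (mem_inf.2 ⟨(k⁻¹ * ⟨x, hxL⟩ : L).2, (mem_ker Q).1 h3⟩)
      have h5 := mul_mem hk h4
      rwa [mul_inv_cancel_left] at h5
    · refine sup_le ?_ (cent_le_pre.trans (le_iSup (fun b : FF => pre Q (Eg FF N b)) b₀))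
      rw [closure_le]
      rintro _ ⟨g, hg, A, hA, hAF, a, ha, rfl⟩
      obtain ⟨D', hD', -, h1⟩ := D.fam.perm (ph Q ⟨g, hg⟩) _ hAF
      refine (le_iSup (fun b : FF => pre Q (Eg FF N b)) ⟨D', hD'⟩) ?_
      refine mem_pre.2 ⟨mul_mem (mul_mem hg (D.SL (hA.1 ha))) (inv_mem hg), ?_⟩
      have h3 := mem_Eg (N := N) (g := ph Q ⟨g, hg⟩) (D := D') hAF h1 (mem_im.2 ⟨⟨a, D.SL (hA.1 ha)⟩, ha, rfl⟩)
      rw [← map_inv, ← map_mul, ← map_mul] at h3
      exact h3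
  rw [e1]
  have key : ∀ d ∈ normalizer (L : Set G), d ∈ normalizer (B : Set G) → ∀ x ∈ K1, d * x * d⁻¹ ∈ K1 := by
    intro d hdL hdB x hx
    have hdU : d ∈ normalizer (U : Set G) := norm_zl D.SL hdL
    have h1 : K1 ≤ K1.comap (MulAut.conj d).toMonoidHom := by
      refine sup_le ?_ ?_
      · rw [closure_le]
        rintro _ ⟨g, hg, A, hA, hAF, a, ha, rfl⟩
        change d * (g * a * g⁻¹) * d⁻¹ ∈ K1
        obtain ⟨y, hy, hn⟩ := frat D.SL hdL
        have hyB : y ∈ normalizer (B : Set G) := DecE.le_norm_B D.dec hy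
        have hnB : y⁻¹ * d ∈ normalizer (B : Set G) := mul_mem (inv_mem hyB) hdB
        have hnU : y⁻¹ * d ∈ normalizer (U : Set G) := mul_mem (inv_mem (Q.nrm hy)) hdU
        have hA' : MulAut.conj (y⁻¹ * d) • A ∈ EE (S : Subgroup G) U := by
          refine EE_conj hnU hA ?_
          intro z hz
          rw [mem_cj] at hz
          have h3 := (mem_normalizer_iff.1 hn _).1 (hA.1 hz)
          have e3 : (y⁻¹ * d) * ((y⁻¹ * d)⁻¹ * z * (y⁻¹ * d)) * (y⁻¹ * d)⁻¹ = z := by group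
          rwa [e3] at h3
        have hAB : ¬ A ≤ centralizer (B : Set G) := by
          intro h3
          obtain ⟨A', -, -, -, l, hl⟩ := D.atom ⟨_, hAF⟩
          obtain ⟨l', hl'⟩ := rt_nat D.two (D.fam.nb _ hAF) (hA.1.trans D.SL) rfl
          exact hl'.mv (h3.trans (centralizer_le (le_iSup (fun b : FF => su Q (N b)) ⟨_, hAF⟩)))
        have hAF' : im Q (MulAut.conj (y⁻¹ * d) • A) ∈ FF := by
          refine D.mem_of hA' fun h3 => hAB ?_
          intro a ha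
          rw [mem_cent_iff]
          intro w hw
          have h4 : (y⁻¹ * d) * a * (y⁻¹ * d)⁻¹ ∈ MulAut.conj (y⁻¹ * d) • A := mem_cj.2 (by
            have e3 : (y⁻¹ * d)⁻¹ * ((y⁻¹ * d) * a * (y⁻¹ * d)⁻¹) * (y⁻¹ * d) = a := by group
            rwa [e3])
          have h5 := mem_cent_iff.1 (h3 h4) _ ((mem_normalizer_iff.1 hnB w).1 hw)
          have e4 : (y⁻¹ * d) * a * (y⁻¹ * d)⁻¹ * ((y⁻¹ * d) * w * (y⁻¹ * d)⁻¹) * ((y⁻¹ * d) * a * (y⁻¹ * d)⁻¹)⁻¹ =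
            (y⁻¹ * d) * (a * w * a⁻¹) * (y⁻¹ * d)⁻¹ := by group
          rw [e4] at h5
          exact mul_left_cancel (mul_right_cancel h5)
        refine mem_sup_left (subset_closure ⟨d * g * d⁻¹ * y, mul_mem ((mem_normalizer_iff.1 hdL g).1 hg) hy,
          MulAut.conj (y⁻¹ * d) • A, hA', hAF', (y⁻¹ * d) * a * (y⁻¹ * d)⁻¹, ?_, ?_⟩)
        · exact mem_cj.2 (by
            have e3 : (y⁻¹ * d)⁻¹ * ((y⁻¹ * d) * a * (y⁻¹ * d)⁻¹) * (y⁻¹ * d) = a := by group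
            rwa [e3])
        · group
      · rintro x ⟨hxL, hxU⟩
        change d * x * d⁻¹ ∈ K1
        exact mem_sup_right (mem_inf.2 ⟨(mem_normalizer_iff.1 hdL x).1 hxL,
          (mem_normalizer_iff.1 (norm_centralizer hdU) x).1 hxU⟩)
    exact h1 hx
  rw [mem_normalizer_iff]
  intro x
  refine ⟨key d hdL hdB x, fun hx => ?_⟩
  have h1 := key d⁻¹ (inv_mem hdL) (inv_mem hdB) _ hx
  have e3 : d⁻¹ * (d * x * d⁻¹) * d⁻¹⁻¹ = x := by group
  rwa [e3] at h1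

/-- **the hypothesis `bad` of `FrE.false_of`** -/
theorem bad_nat {R : Subgroup G} (hRR : R ≤ su Q (Rs FF C))
    (hRA : ∀ A ∈ EE (S : Subgroup G) (zl (S : Subgroup G) L), A ≤ centralizer (R : Set G)) {e : G}
    (he : (S : Subgroup G) ≤ centralizer ({e} : Set G))
    (hek : ∀ b : FF, ∃ n, n ≠ 1 ∧ IsC (fun b : FF => su Q (N b)) (su Q (Rs FF C)) b e n) :
    ∀ d ∈ centralizer ({e} : Set G), d ∈ normalizer (R : Set G) →
      d ∈ normalizer ((⨆ b : FF, su Q (N b) : Subgroup G) : Set G) →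
      d ∈ normalizer (((S : Subgroup G) ⊓ centralizer (R : Set G) : Subgroup G) : Set G) →
      d ∈ normalizer (L : Set G) → Odd (orderOf d) →
      (∀ j ∈ (S : Subgroup G) ⊓ centralizer (R : Set G), ∀ w ∈ (⨆ b : FF, su Q (N b) : Subgroup G),
        (j * d * j⁻¹ * d⁻¹) * (d * w * d⁻¹ * w⁻¹) = (d * w * d⁻¹ * w⁻¹) * (j * d * j⁻¹ * d⁻¹)) →
      d ∈ centralizer ((⨆ b : FF, su Q (N b) : Subgroup G) : Set G) := by
  intro d hde hdR hdB hdJ hdL hd hcom
  have h := D.dec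
  have hdU := norm_zl D.SL hdL
  have hdE := D.norm_E hdL hdB
  have hcom' : ∀ b : FF, ∀ j ∈ (S : Subgroup G) ⊓ pre Q (Eg FF N b), ∀ w ∈ su Q (N b),
      Commute (j * d * j⁻¹ * d⁻¹) (d * w * d⁻¹ * w⁻¹) := fun b j hj w hw =>
    hcom j (mem_inf.2 ⟨hj.1, centralizer_le hRR (h.ER b hj.2)⟩) w (le_iSup (fun b : FF => su Q (N b)) b hw)
  have hN := stab h D.irr D.mv hdU hdE hcom'
  have hR₀ := norm_R h D.irr D.mv hdU hdE
  have hNab : ∀ b : FF, su Q (N b) ≤ centralizer (su Q (N b) : Set G) := fun b =>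
    ((h.NU b).trans h.ab).trans (centralizer_le (h.NU b))
  have key : ∀ b : FF, d ∈ centralizer (su Q (N b) : Set G) := by
    intro b
    have hdN : d ∈ normalizer (su Q (N b) : Set G) := norm_of_smul (hN b)
    obtain ⟨A, hA, hAb, hAS, l, hr⟩ := D.atom b
    rw [mem_cent_iff]
    -- the component of `e`
    obtain ⟨n, hn1, hc⟩ := hek b
    have hnl : n ∈ l := by
      obtain ⟨s, hs, hsc⟩ := SetLike.not_le_iff_exists.1 hr.mv
      refine hr.fix_le s hs hsc n hc.1 ?_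
      have h1 : s * (n⁻¹ * e) * s⁻¹ = n⁻¹ * e := mem_cent_iff.1 (ECo h b (hAS hs).2) _ hc.2
      have h3 : s * e * s⁻¹ = e := by
        rw [mul_inv_eq_iff_eq_mul]
        exact mem_centralizer_singleton_iff.1 (he (hAS hs).1)
      calc s * n * s⁻¹ = (s * e * s⁻¹) * (s * (n⁻¹ * e) * s⁻¹)⁻¹ := by group
        _ = e * (n⁻¹ * e)⁻¹ := by rw [h1, h3]
        _ = n := by group
    refine hr.fix (hNab b) (fun x hx => D.sq x (h.NU b hx)) hd hdN ?_ hnl hn1 ?_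
      fun s hs w hw => hcom' b s (hAS hs) w hw
    · -- `d` normalises `A` modulo `C(U)`
      have hA' : MulAut.conj d • A ∈ EE (S : Subgroup G) (zl (S : Subgroup G) L) := by
        refine EE_conj hdU hA ?_
        intro z hz
        rw [mem_cj] at hz
        have h3 := (mem_normalizer_iff.1 hdJ _).1 (mem_inf.2 ⟨hA.1 hz, hRA A hA hz⟩)
        have e3 : d * (d⁻¹ * z * d) * d⁻¹ = z := by group
        rw [e3] at h3
        exact h3.1
      have hAb' : im Q (MulAut.conj d • A) = b := by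
        refine D.eq_of hA' b fun h3 => hr.mv ?_
        intro a ha
        rw [mem_cent_iff]
        intro w hw
        have h4 : d * a * d⁻¹ ∈ MulAut.conj d • A := mem_cj.2 (by
          have e3 : d⁻¹ * (d * a * d⁻¹) * d = a := by group
          rwa [e3])
        have h5 := mem_cent_iff.1 (h3 h4) _ ((mem_normalizer_iff.1 hdN w).1 hw)
        have e4 : d * a * d⁻¹ * (d * w * d⁻¹) * (d * a * d⁻¹)⁻¹ = d * (a * w * a⁻¹) * d⁻¹ := by group
        rw [e4] at h5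
        exact mul_left_cancel (mul_right_cancel h5)
      intro s hs
      have h3 : d * s * d⁻¹ ∈ MulAut.conj d • A := mem_cj.2 (by
        have e3 : d⁻¹ * (d * s * d⁻¹) * d = s := by group
        rwa [e3])
      have h4 : ph Q ⟨d * s * d⁻¹, D.SL (hA'.1 h3)⟩ ∈ im Q A := by
        rw [hAb, ← hAb']
        exact mem_im.2 ⟨_, h3, rfl⟩
      obtain ⟨s', hs', h5⟩ := mem_im.1 h4
      refine ⟨s', hs', fun w hw => ?_⟩
      obtain ⟨m, hm, rfl⟩ := ex_su hw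
      have h6 : ph Q s' • m = ph Q ⟨d * s * d⁻¹, D.SL (hA'.1 h3)⟩ • m := by rw [h5]
      rw [ph_smul, ph_smul] at h6
      exact (congrArg Q.val h6).symm
    · -- `d` centralises the component
      have h1 : IsC (fun b : FF => su Q (N b)) (su Q (Rs FF C)) b e (d * n * d⁻¹) := by
        refine ⟨(mem_normalizer_iff.1 hdN n).1 hc.1, ?_⟩
        have h2 := (mem_normalizer_iff.1 (norm_Co hN hR₀ b) _).1 hc.2
        have e1 : (d * n * d⁻¹)⁻¹ * e = d * (n⁻¹ * e) * d⁻¹ := by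
          calc (d * n * d⁻¹)⁻¹ * e = d * n⁻¹ * d⁻¹ * (d * e * d⁻¹) := by
                rw [mem_centralizer_singleton_iff.1 hde]; group
            _ = _ := by group
        rw [e1]
        exact h2
      exact (h.uniq hc h1).symm
  have h3 : (⨆ b : FF, su Q (N b)) ≤ centralizer ({d} : Set G) := by
    refine iSup_le fun b y hy => ?_
    rw [mem_centralizer_singleton_iff]
    exact mem_centralizer_iff.1 (key b) y hy
  rw [mem_centralizer_iff]
  intro y hy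
  exact mem_centralizer_singleton_iff.1 (h3 hy)

end fin

end Cfsg.Agent.Omega.NOThreeL.RZ.TwoC.BadNat

end
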